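import Mathlib
import Cfsg.Agent.Lib.Helper5.PSL2MaxOdd.WildOdd

set_option autoImplicit false

/-! Subgroups of `PGL₂(F)` and their images in `PGL₂` of the algebraic closure. -/

namespace Cfsg.Agent.Lib.Helper5.PGL2Max

open Matrix Cfsg.Agent.Lib.Helper4 Cfsg.Agent.Lib.Helper5.Mob Cfsg.Agent.Lib.Helper5.MobPGL
  Cfsg.Agent.Lib.Helper5.MobWild Cfsg.Agent.Lib.Helper5.MobRat Cfsg.Agent.Lib.Helper5.DicksonBorel
  Cfsg.Agent.Lib.Helper5.DicksonMain Cfsg.Agent.Lib.Helper5.DicksonOrders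
  Cfsg.Agent.Lib.Helper5.DicksonMax Cfsg.Agent.Lib.Helper5.PSL2Tori
open scoped LinearAlgebra.Projectivization MatrixGroups

variable {F E : Type*} [Field F] [Field E] (j : F →+* E)
  (M : Subgroup (Matrix.ProjGenLinGroup (Fin 2) F))

/-- the image of a subgroup of `PGL₂(F)` in `PGL₂(E)` -/
noncomputable def imgR : Subgroup PGL(Fin 2, E) := M.map (ProjGenLinGroup.map j)

/-- a subgroup is isomorphic to its image -/
noncomputable def imgRIso : M ≃* imgR j M :=
  M.equivMapOfInjective _ (SubfieldPSL.pglMap_injective j)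

theorem imgRIso_coe (m : M) : ((imgRIso j M m : imgR j M) : PGL(Fin 2, E)) =
    ProjGenLinGroup.map j (m : Matrix.ProjGenLinGroup (Fin 2) F) :=
  Subgroup.coe_equivMapOfInjective_apply M _ _ m

theorem imgR_le : imgR j M ≤ ratGroup j := by
  rintro _ ⟨m, -, rfl⟩
  exact ⟨m, rfl⟩

theorem mem_imgR_iff (g : PGL(Fin 2, E)) :
    g ∈ imgR j M ↔ ∃ m ∈ M, ProjGenLinGroup.map j m = g := Subgroup.mem_map

/-- `PGL₂(F)` is isomorphic to the group of rational elements -/
noncomputable def ratIso : Matrix.ProjGenLinGroup (Fin 2) F ≃* ratGroup j :=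
  MonoidHom.ofInjective (SubfieldPSL.pglMap_injective j)

theorem ratIso_coe (g : Matrix.ProjGenLinGroup (Fin 2) F) :
    ((ratIso j g : ratGroup j) : PGL(Fin 2, E)) = ProjGenLinGroup.map j g := rfl

theorem ratIso_smul (g : Matrix.ProjGenLinGroup (Fin 2) F) (x : ℙ E (Fin 2 → E)) :
    ratIso j g • x = ProjGenLinGroup.map j g • x := rfl

/-- a maximal subgroup contained in a proper subgroup equals it -/
theorem coatom_transfer_R (hM : IsCoatom M) (N : Subgroup (ratGroup j))
    (h : ∀ m ∈ M, ratIso j m ∈ N) (hN : N ≠ ⊤) : Nonempty (M ≃* N) := by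
  set N₀ := N.comap (ratIso j).toMonoidHom with hN₀
  have hle : M ≤ N₀ := fun m hm => h m hm
  have hne : N₀ ≠ ⊤ := by
    intro htop
    apply hN
    rw [eq_top_iff]
    intro g _
    obtain ⟨m, rfl⟩ := (ratIso j).surjective g
    have : m ∈ N₀ := by rw [htop]; exact Subgroup.mem_top _
    exact this
  have heq : M = N₀ := by
    by_contra hne'
    exact hne (hM.2 _ (lt_of_le_of_ne hle hne'))
  rw [heq]
  exact ⟨((ratIso j).subgroupMap N₀).trans (MulEquiv.subgroupCongr (by
    rw [hN₀]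
    exact Subgroup.map_comap_eq_self_of_surjective (ratIso j).surjective N))⟩

/-- the image of `PSL₂(F)` in `PGL₂(F)` -/
noncomputable def Lr (F : Type*) [Field F] : Subgroup (Matrix.ProjGenLinGroup (Fin 2) F) :=
  (ProjectiveSpecialLinearGroup.toPGL (n := Fin 2) (R := F)).range

theorem range_eq_Lr :
    (Matrix.ProjGenLinGroup.mk.comp Matrix.SpecialLinearGroup.toGL).range = Lr F := by
  ext g
  constructor
  · rintro ⟨h, rfl⟩
    exact ⟨QuotientGroup.mk h, rfl⟩
  · rintro ⟨h, rfl⟩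
    obtain ⟨h', rfl⟩ := QuotientGroup.mk_surjective h
    exact ⟨h', rfl⟩

theorem mem_Lr_iff (g : Matrix.ProjGenLinGroup (Fin 2) F) :
    g ∈ Lr F ↔ ProjGenLinGroup.map j g ∈ Gam j := by
  rw [mem_Gam]
  constructor
  · rintro ⟨h, rfl⟩
    exact ⟨h, rfl⟩
  · rintro ⟨h, hh⟩
    refine ⟨h, ?_⟩
    apply SubfieldPSL.pglMap_injective j
    exact hh

variable [Fintype F]

theorem Lr_index (hodd : Odd (Fintype.card F)) : (Lr F).index = 2 := by
  unfold Lr
  rw [PGLOrders.index_range_toPGL, gcd_two_of_odd (Nat.odd_iff.mp hodd)]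

theorem Lr_normal (hodd : Odd (Fintype.card F)) : (Lr F).Normal :=
  Subgroup.normal_of_index_eq_two (Lr_index hodd)

theorem Lr_ne_top (hodd : Odd (Fintype.card F)) : Lr F ≠ ⊤ := by
  intro h
  have := Lr_index (F := F) hodd
  rw [h, Subgroup.index_top] at this
  omega

/-- elements of odd order lie in the image of `PSL₂(F)` -/
theorem mem_Lr_of_odd (hodd : Odd (Fintype.card F)) (g : Matrix.ProjGenLinGroup (Fin 2) F)
    (hg : Odd (orderOf g)) : g ∈ Lr F := by
  obtain ⟨k, hk⟩ := hg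
  have h1 : g ^ 2 ∈ Lr F := Subgroup.sq_mem_of_index_two (Lr_index hodd) g
  have h2 : g = (g ^ 2) ^ (k + 1) := by
    rw [← pow_mul, show 2 * (k + 1) = orderOf g + 1 by omega, pow_succ, pow_orderOf_eq_one,
      one_mul]
  rw [h2]
  exact Subgroup.pow_mem _ h1 _

/-- a maximal subgroup not containing the image of `PSL₂(F)` is not contained in it -/
theorem not_le_Lr (hodd : Odd (Fintype.card F)) (hM : IsCoatom M) (hML : ¬ Lr F ≤ M) :
    ¬ M ≤ Lr F := by
  intro h
  rcases eq_or_lt_of_le h with h1 | h1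
  · exact hML (le_of_eq h1.symm)
  · exact Lr_ne_top hodd (hM.2 _ h1)

end Cfsg.Agent.Lib.Helper5.PGL2Max
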