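import Mathlib
import Cfsg.Agent.Lib.Helper5.PGL2Max.Basics

set_option autoImplicit false

/-! Subgroups of `PGL₂(F)` isomorphic to alternating groups lie in the image of `PSL₂(F)`. -/

namespace Cfsg.Agent.Lib.Helper5.PGL2Max

open Matrix
open scoped MatrixGroups

variable {F : Type*} [Field F] [Fintype F]
  (M : Subgroup (Matrix.ProjGenLinGroup (Fin 2) F))

theorem le_Lr_of_alternating (hodd : Odd (Fintype.card F)) (n : ℕ)
    (e : M ≃* alternatingGroup (Fin n)) : M ≤ Lr F := by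
  set N : Subgroup M := (Lr F).subgroupOf M with hN
  set N' : Subgroup (alternatingGroup (Fin n)) := N.map e.toMonoidHom with hN'
  set N'' : Subgroup (Equiv.Perm (Fin n)) := N'.map (alternatingGroup (Fin n)).subtype with hN''
  have hcl : Subgroup.closure {σ : Equiv.Perm (Fin n) | σ.IsThreeCycle} ≤ N'' := by
    rw [Subgroup.closure_le]
    intro σ hσ
    have hσ3 : σ.IsThreeCycle := hσ
    have hσA : σ ∈ alternatingGroup (Fin n) := hσ3.mem_alternatingGroup
    have ho : orderOf ((e.symm ⟨σ, hσA⟩ : M) : Matrix.ProjGenLinGroup (Fin 2) F) = 3 := by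
      rw [Subgroup.orderOf_coe, e.symm.orderOf_eq, ← Subgroup.orderOf_coe]
      exact hσ3.orderOf
    have hmem : ((e.symm ⟨σ, hσA⟩ : M) : Matrix.ProjGenLinGroup (Fin 2) F) ∈ Lr F :=
      mem_Lr_of_odd hodd _ (by rw [ho]; decide)
    refine ⟨⟨σ, hσA⟩, ⟨e.symm ⟨σ, hσA⟩, ?_, ?_⟩, rfl⟩
    · exact Subgroup.mem_subgroupOf.mpr hmem
    · exact e.apply_symm_apply _
  rw [Equiv.Perm.closure_three_cycles_eq_alternating] at hcl
  intro m hm
  have h1 : ((e ⟨m, hm⟩ : alternatingGroup (Fin n)) : Equiv.Perm (Fin n)) ∈ N'' :=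
    hcl (e ⟨m, hm⟩).2
  obtain ⟨y, hy, hy2⟩ := h1
  have hy3 : y = e ⟨m, hm⟩ := Subtype.ext hy2
  rw [hy3] at hy
  obtain ⟨m', hm', hm2⟩ := hy
  have hm3 : m' = ⟨m, hm⟩ := e.injective hm2
  rw [hm3] at hm'
  exact Subgroup.mem_subgroupOf.mp hm'

end Cfsg.Agent.Lib.Helper5.PGL2Max
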