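import Mathlib

set_option autoImplicit false

/-! A maximal subgroup meeting a simple normal subgroup in an abelian Sylow subgroup. -/

namespace Cfsg.Agent.Lib.Helper5.PGL2Max

variable {G : Type*} [Group G]

theorem factorization_of_eq' (ℓ a m n : ℕ) (hℓ : ℓ.Prime) (hn : n = ℓ ^ a * m) (hm : ¬ ℓ ∣ m) :
    n.factorization ℓ = a := by
  have hm0 : m ≠ 0 := by rintro rfl; exact hm (dvd_zero _)
  rw [hn, Nat.factorization_mul (pow_ne_zero _ hℓ.ne_zero) hm0, Finsupp.add_apply,
    hℓ.factorization_pow, Finsupp.single_eq_same, Nat.factorization_eq_zero_of_not_dvd hm,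
    add_zero]

/-- a maximal subgroup cannot meet a simple normal subgroup in an abelian Sylow subgroup -/
theorem not_coatom_of_abelian_sylow [Finite G] (L : Subgroup G) [hLn : L.Normal]
    [hLs : IsSimpleGroup L] (M : Subgroup G) (hM : IsCoatom M) (ℓ : ℕ) [Fact ℓ.Prime] (a m : ℕ)
    (hcL : Nat.card L = ℓ ^ a * m) (hm : ¬ ℓ ∣ m) (hm1 : m ≠ 1) (ha : a ≠ 0)
    (hV : Nat.card (M ⊓ L : Subgroup G) = ℓ ^ a)
    (hcomm : ∀ x ∈ M ⊓ L, ∀ y ∈ M ⊓ L, x * y = y * x) : False := by
  have hℓ : ℓ.Prime := Fact.out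
  have hpow : 1 < ℓ ^ a := Nat.one_lt_pow ha hℓ.one_lt
  have hm0 : m ≠ 0 := by rintro rfl; exact hm (dvd_zero _)
  obtain ⟨V, hVdef⟩ : ∃ V : Subgroup G, V = M ⊓ L := ⟨_, rfl⟩
  rw [← hVdef] at hV hcomm
  have hVL : V ≤ L := by rw [hVdef]; exact inf_le_right
  have hVM : V ≤ M := by rw [hVdef]; exact inf_le_left
  have hcardS : Nat.card (V.subgroupOf L) = ℓ ^ a := by
    rw [Nat.card_congr (Subgroup.subgroupOfEquivOfLe hVL).toEquiv, hV]
  have hMN : M ≤ Subgroup.normalizer (V : Set G) := by
    intro g hg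
    rw [Subgroup.mem_normalizer_iff]
    intro v
    rw [hVdef]
    constructor
    · rintro ⟨h1, h2⟩
      exact ⟨M.mul_mem (M.mul_mem hg h1) (M.inv_mem hg), hLn.conj_mem v h2 g⟩
    · rintro ⟨h1, h2⟩
      have e : v = g⁻¹ * (g * v * g⁻¹) * g⁻¹⁻¹ := by group
      rw [e]
      exact ⟨M.mul_mem (M.mul_mem (M.inv_mem hg) h1) (M.inv_mem (M.inv_mem hg)),
        hLn.conj_mem _ h2 g⁻¹⟩
  rcases eq_or_lt_of_le hMN with hN | hN
  · -- the normaliser is `M`: Burnside's transfer theorem
    have hfac : (Nat.card L).factorization ℓ = a := factorization_of_eq' ℓ a m _ hℓ hcL hm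
    obtain ⟨P, hPdef⟩ : ∃ P : Sylow ℓ L, P = Sylow.ofCard (V.subgroupOf L) (by
      rw [hfac]; exact hcardS) := ⟨_, rfl⟩
    have hPc : (P : Subgroup L) = V.subgroupOf L := by rw [hPdef]; exact Sylow.coe_ofCard _ _
    have hP : Subgroup.normalizer ((P : Subgroup L) : Set L) ≤
        Subgroup.centralizer ((P : Subgroup L) : Set L) := by
      intro n hn
      rw [hPc] at hn ⊢
      have hnG : (n : G) ∈ Subgroup.normalizer (V : Set G) := by
        rw [Subgroup.mem_normalizer_iff]
        intro v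
        rw [Subgroup.mem_normalizer_iff] at hn
        constructor
        · intro hv
          have := (hn ⟨v, hVL hv⟩).mp (Subgroup.mem_subgroupOf.mpr hv)
          exact Subgroup.mem_subgroupOf.mp this
        · intro hv
          have hvL : v ∈ L := by
            have h1 : (n : G) * v * (n : G)⁻¹ ∈ L := hVL hv
            have e : v = (n : G)⁻¹ * ((n : G) * v * (n : G)⁻¹) * (n : G) := by group
            rw [e]
            exact L.mul_mem (L.mul_mem (L.inv_mem n.2) h1) n.2
          have := (hn ⟨v, hvL⟩).mpr (Subgroup.mem_subgroupOf.mpr hv)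
          exact Subgroup.mem_subgroupOf.mp this
      rw [← hN] at hnG
      have hnV : (n : G) ∈ V := by rw [hVdef]; exact ⟨hnG, n.2⟩
      rw [Subgroup.mem_centralizer_iff]
      intro v hv
      apply Subtype.ext
      exact hcomm _ (Subgroup.mem_subgroupOf.mp hv) _ hnV
    have hcomp := MonoidHom.ker_transferSylow_isComplement' P hP
    have hcard := hcomp.card_mul_card
    have hcP : Nat.card (P : Subgroup L) = ℓ ^ a := by rw [hPc, hcardS]
    rw [hcP, hcL] at hcard
    have hK : Nat.card (MonoidHom.transferSylow P hP).ker = m := by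
      have hpos : 0 < ℓ ^ a := by omega
      apply Nat.eq_of_mul_eq_mul_right hpos
      rw [hcard, mul_comm]
    rcases (MonoidHom.normal_ker (MonoidHom.transferSylow P hP)).eq_bot_or_eq_top with h | h
    · rw [h, Subgroup.card_bot] at hK
      exact hm1 hK.symm
    · rw [h, Subgroup.card_top, hcL] at hK
      have : ℓ ^ a * m = 1 * m := by rw [hK, one_mul]
      have := Nat.eq_of_mul_eq_mul_right (Nat.pos_of_ne_zero hm0) this
      omega
  · -- the normaliser is everything
    have htop := hM.2 _ hN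
    have hnorm : V.Normal := Subgroup.normalizer_eq_top_iff.mp htop
    have hn' : (V.subgroupOf L).Normal := hnorm.subgroupOf L
    rcases hn'.eq_bot_or_eq_top with h | h
    · rw [h, Subgroup.card_bot] at hcardS
      omega
    · rw [h, Subgroup.card_top, hcL] at hcardS
      have : ℓ ^ a * m = ℓ ^ a * 1 := by rw [hcardS, mul_one]
      exact hm1 (Nat.eq_of_mul_eq_mul_left (by omega) this)

end Cfsg.Agent.Lib.Helper5.PGL2Max
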