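import Mathlib
import Cfsg.Agent.Lib.Helper5.PGL2Max.Basics
import Cfsg.Agent.Lib.Helper5.MobWild5

set_option autoImplicit false

/-! Stabilisers of points and pairs of points in the group of rational elements of `PGL₂`. -/

namespace Cfsg.Agent.Lib.Helper5.PGL2Max

open Matrix Cfsg.Agent.Lib.Helper4 Cfsg.Agent.Lib.Helper5.Mob Cfsg.Agent.Lib.Helper5.MobPGL
  Cfsg.Agent.Lib.Helper5.MobWild Cfsg.Agent.Lib.Helper5.MobRat Cfsg.Agent.Lib.Helper5.DicksonBorel
  Cfsg.Agent.Lib.Helper5.DicksonMain Cfsg.Agent.Lib.Helper5.DicksonOrders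
  Cfsg.Agent.Lib.Helper5.DicksonMax Cfsg.Agent.Lib.Helper5.PSL2Tori
open scoped LinearAlgebra.Projectivization MatrixGroups

variable {F E : Type*} [Field F] [Fintype F] [Field E] [IsAlgClosed E] (j : F →+* E)
  (p : ℕ) [Fact p.Prime] [CharP F p] [CharP E p]

instance finite_PGL : Finite (Matrix.ProjGenLinGroup (Fin 2) F) :=
  Finite.of_surjective _ (ProjGenLinGroup.mk_surjective (n := Fin 2) (R := F))

omit [IsAlgClosed E] in
instance finite_R : Finite (ratGroup j) := Finite.of_equiv _ (ratIso j).toEquiv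

omit [IsAlgClosed E] in
theorem card_R : Nat.card (ratGroup j) =
    Fintype.card F * ((Fintype.card F - 1) * (Fintype.card F + 1)) := by
  rw [← Nat.card_congr (ratIso j).toEquiv]
  exact card_pgl _ rfl

omit [Fintype F] [IsAlgClosed E] in
theorem smul_R_def (r : ratGroup j) (x : ℙ E (Fin 2 → E)) : r • x = (r : PGL(Fin 2, E)) • x := rfl

omit [IsAlgClosed E] in
theorem orbit_R_inf : MulAction.orbit (ratGroup j) (inf : ℙ E (Fin 2 → E)) =
    MulAction.orbit (Gam j) (inf : ℙ E (Fin 2 → E)) := by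
  ext t
  constructor
  · rintro ⟨r, rfl⟩
    exact (mem_orbit_inf_iff j _).mpr (isRat_smul j r.2 (isRat_inf j))
  · rintro ⟨g, rfl⟩
    exact ⟨⟨g.1, Gam_le_ratGroup j g.2⟩, rfl⟩

omit [IsAlgClosed E] in
theorem ee_R_inf : ee (ratGroup j) (inf : ℙ E (Fin 2 → E)) =
    Fintype.card F * (Fintype.card F - 1) := by
  have h := card_orbit_mul_card_stabilizer (G := ratGroup j) (inf : ℙ E (Fin 2 → E))
  rw [orbit_R_inf, card_R] at h
  have h2 : Nat.card (MulAction.orbit (Gam j) (inf : ℙ E (Fin 2 → E))) = Fintype.card F + 1 :=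
    nn_inf j
  rw [h2] at h
  have hpos : 0 < Fintype.card F + 1 := by omega
  apply Nat.eq_of_mul_eq_mul_left hpos
  rw [h]; ring

omit [IsAlgClosed E] in
/-- the stabiliser of a rational point -/
theorem ee_R_rat {x : ℙ E (Fin 2 → E)} (hx : IsRat j x) :
    ee (ratGroup j) x = Fintype.card F * (Fintype.card F - 1) := by
  have h1 : x ∈ MulAction.orbit (ratGroup j) (inf : ℙ E (Fin 2 → E)) := by
    rw [orbit_R_inf]; exact (mem_orbit_inf_iff j x).mpr hx
  obtain ⟨r, hr⟩ := h1
  have hr' : r • (inf : ℙ E (Fin 2 → E)) = x := hr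
  rw [← hr']
  have : ee (ratGroup j) (r • (inf : ℙ E (Fin 2 → E))) = ee (ratGroup j) (inf : ℙ E (Fin 2 → E)) :=
    card_stabilizer_smul r _
  rw [this]
  exact ee_R_inf j

omit [Fintype F] [IsAlgClosed E] in
theorem map_aff (l : Fˣ) (b : F) :
    ProjGenLinGroup.map j (aff l b) = aff (Units.map j.toMonoidHom l) (j b) := by
  unfold aff
  rw [ProjGenLinGroup.map_mk, map_affGL]

omit [IsAlgClosed E] in
/-- the two-point stabiliser of `∞` and `0` -/
theorem card_stab_pair_R :
    Nat.card ↥(MulAction.stabilizer (ratGroup j) (inf : ℙ E (Fin 2 → E)) ⊓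
      MulAction.stabilizer (ratGroup j) (fin 0 : ℙ E (Fin 2 → E))) = Fintype.card F - 1 := by
  have hmem : ∀ l : Fˣ, aff (Units.map j.toMonoidHom l) (0 : E) ∈ ratGroup j := by
    intro l
    refine ⟨aff l 0, ?_⟩
    rw [map_aff, map_zero]
  let f : Fˣ → ↥(MulAction.stabilizer (ratGroup j) (inf : ℙ E (Fin 2 → E)) ⊓
      MulAction.stabilizer (ratGroup j) (fin 0 : ℙ E (Fin 2 → E))) := fun l =>
    ⟨⟨aff (Units.map j.toMonoidHom l) 0, hmem l⟩, by
      constructor
      · show aff (Units.map j.toMonoidHom l) 0 • (inf : ℙ E (Fin 2 → E)) = inf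
        exact aff_smul_inf _ _
      · show aff (Units.map j.toMonoidHom l) 0 • fin (0 : E) = fin 0
        rw [aff_smul_fin]; congr 1; simp⟩
  have hinj : Function.Injective f := by
    intro l m hlm
    have h1 : aff (Units.map j.toMonoidHom l) (0 : E) = aff (Units.map j.toMonoidHom m) 0 :=
      congrArg (fun g => ((g : ratGroup j) : PGL(Fin 2, E))) (congrArg Subtype.val hlm)
    have h2 := (aff_inj h1).1
    apply Units.ext
    apply j.injective
    exact congrArg Units.val h2
  have hsurj : Function.Surjective f := by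
    rintro ⟨⟨g, hg⟩, hg1, hg2⟩
    have h1 : g • (inf : ℙ E (Fin 2 → E)) = inf := hg1
    have h2 : g • (fin 0 : ℙ E (Fin 2 → E)) = fin 0 := hg2
    obtain ⟨l, b, rfl⟩ := exists_aff_of_fix g h1
    rw [aff_smul_fin] at h2
    have hb : b = 0 := by
      have := fin_injective h2
      simpa using this
    subst hb
    have h3 : IsRat j (aff l 0 • fin (1 : E)) := by
      apply isRat_smul j hg
      have := isRat_fin j 1
      rwa [map_one] at this
    rw [aff_smul_fin, isRat_fin_iff] at h3
    obtain ⟨a, ha⟩ := h3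
    have ha' : j a = (l : E) := by rw [ha]; simp
    have ha0 : a ≠ 0 := by
      rintro rfl
      rw [map_zero] at ha'
      exact l.ne_zero ha'.symm
    refine ⟨Units.mk0 a ha0, ?_⟩
    apply Subtype.ext
    apply Subtype.ext
    show aff (Units.map j.toMonoidHom (Units.mk0 a ha0)) (0 : E) = aff l 0
    congr 1
    apply Units.ext
    exact ha'
  rw [← Nat.card_congr (Equiv.ofBijective f ⟨hinj, hsurj⟩), Nat.card_units,
    Nat.card_eq_fintype_card]

include p in
/-- the stabiliser of a pair of rational points -/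
theorem pairStab_R_rat {x y : ℙ E (Fin 2 → E)} (hx : IsRat j x) (hy : IsRat j y) (hxy : x ≠ y) :
    Nonempty (pairStab (ratGroup j) x y ≃* DihedralGroup (Fintype.card F - 1)) := by
  obtain ⟨γ, h1, h2⟩ := rat_two_transitive j hx hy hxy
  set γ' : ratGroup j := ⟨γ.1, Gam_le_ratGroup j γ.2⟩ with hγ'
  have h1' : γ' • x = inf := h1
  have h2' : γ' • y = fin 0 := h2
  obtain ⟨⟨c, hc1, hc2⟩, -⟩ := split_pair j p
  set c' : ratGroup j := ⟨c.1, Gam_le_ratGroup j c.2⟩ with hc'
  obtain ⟨-, ⟨e⟩⟩ := (subMob (ratGroup j) p).pairStab_dihedral (inf : ℙ E (Fin 2 → E)) (fin 0)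
    (fin_ne_inf 0).symm c' hc1 hc2
  rw [card_stab_pair_R] at e
  have h3 : pairStab (ratGroup j) (inf : ℙ E (Fin 2 → E)) (fin 0) =
      (pairStab (ratGroup j) x y).map (MulAut.conj γ').toMonoidHom := by
    rw [← pairStab_conj, h1', h2']
  have e1 : pairStab (ratGroup j) x y ≃*
      (pairStab (ratGroup j) x y).map (MulAut.conj γ').toMonoidHom :=
    (pairStab (ratGroup j) x y).equivMapOfInjective _ (MulAut.conj γ').injective
  exact ⟨(e1.trans (MulEquiv.subgroupCongr h3.symm)).trans e⟩

/-! ### Points that are not rational -/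

section irrational

variable (φ : E →+* E) (hφ1 : ∀ z, φ z = z ^ Fintype.card F) (hφ2 : φ.comp j = j)
  (hφ3 : ∀ z, φ z = z → z ∈ Set.range j)

include hφ3 in
omit [Fintype F] [IsAlgClosed E] in
theorem partner_ne {x : ℙ E (Fin 2 → E)} (hx : ¬ IsRat j x) : ptMap φ x ≠ x :=
  fun h => hx (isRat_of_ptMap_eq j φ hφ3 h)

include hφ2 in
omit [Fintype F] [IsAlgClosed E] in
theorem partner_fixed {x : ℙ E (Fin 2 → E)} {g : PGL(Fin 2, E)} (hg : g ∈ ratGroup j)
    (h : g • x = x) : g • ptMap φ x = ptMap φ x := by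
  rw [← ptMap_smul_of_mem_ratGroup j φ hφ2 hg, h]

include hφ2 hφ3 p in
omit [Fintype F] [CharP F p] in
/-- the Frobenius map swaps an irrational point with a non-trivial stabiliser and its partner -/
theorem frob_sq {x : ℙ E (Fin 2 → E)} (hx : ¬ IsRat j x) {g : PGL(Fin 2, E)}
    (hg : g ∈ ratGroup j) (hg1 : g ≠ 1) (h : g • x = x) : ptMap φ (ptMap φ x) = x := by
  have h1 := partner_fixed j φ hφ2 hg h
  have h2 := partner_fixed j φ hφ2 hg h1
  rcases (isMob (E := E) p).fix_mem_pair hg1 (partner_ne j φ hφ3 hx).symm h h1 h2 with h3 | h3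
  · exact h3
  · exact absurd (ptMap_injective φ h3) (partner_ne j φ hφ3 hx)

include hφ1 hφ2 in
omit [IsAlgClosed E] in
/-- the orbit of an irrational point of degree two is small -/
theorem nn_R_irr_le {x : ℙ E (Fin 2 → E)} (hx : ¬ IsRat j x)
    (hsq : ptMap φ (ptMap φ x) = x) :
    nn (ratGroup j) x ≤ Fintype.card F * (Fintype.card F - 1) := by
  classical
  open Polynomial in
  set q := Fintype.card F with hq
  have hq2 : 2 ≤ q := Fintype.one_lt_card
  have hqq : 1 < q ^ 2 := Nat.one_lt_pow (by norm_num) (by omega)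
  set P : Polynomial E := Polynomial.X ^ (q ^ 2) - Polynomial.X with hP
  have hne : P ≠ 0 := FiniteField.X_pow_card_sub_X_ne_zero E hqq
  have hdeg : P.natDegree = q ^ 2 := FiniteField.X_pow_card_sub_X_natDegree_eq E hqq
  set W : Finset E := P.roots.toFinset with hW
  set J : Finset E := Finset.univ.image j with hJ
  have hWcard : W.card ≤ q ^ 2 := by
    calc W.card ≤ Multiset.card P.roots := Multiset.toFinset_card_le _
      _ ≤ P.natDegree := Polynomial.card_roots' _
      _ = q ^ 2 := hdeg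
  have hJcard : J.card = q := by
    rw [hJ, Finset.card_image_of_injective _ j.injective]; rfl
  have hmemW : ∀ w : E, w ∈ W ↔ w ^ (q ^ 2) = w := by
    intro w
    rw [hW, Multiset.mem_toFinset, Polynomial.mem_roots hne, hP]
    simp [sub_eq_zero]
  have hJW : J ⊆ W := by
    intro w hw
    rw [hJ, Finset.mem_image] at hw
    obtain ⟨a, -, rfl⟩ := hw
    rw [hmemW, ← map_pow, pow_two, pow_mul, FiniteField.pow_card, FiniteField.pow_card]
  have hcard : (W \ J).card ≤ q * (q - 1) := by
    rw [Finset.card_sdiff_of_subset hJW, hJcard]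
    have : q ^ 2 - q = q * (q - 1) := by
      rw [pow_two, Nat.mul_sub, mul_one]
    omega
  have hsub : MulAction.orbit (ratGroup j) x ⊆ fin '' ((W \ J : Finset E) : Set E) := by
    rintro t ⟨r, rfl⟩
    have htr : ¬ IsRat j (r • x) := by
      intro h
      apply hx
      have := isRat_smul j ((ratGroup j).inv_mem r.2) h
      rwa [smul_R_def, inv_smul_smul] at this
    have hsq' : ptMap φ (ptMap φ (r • x)) = r • x := by
      rw [smul_R_def, ptMap_smul_of_mem_ratGroup j φ hφ2 r.2,
        ptMap_smul_of_mem_ratGroup j φ hφ2 r.2, hsq]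
    rcases eq_inf_or_fin (r • x) with h | ⟨w, hw⟩
    · exact absurd (h ▸ isRat_inf j) htr
    · refine ⟨w, ?_, hw.symm⟩
      rw [Finset.mem_coe, Finset.mem_sdiff, hmemW]
      constructor
      · rw [hw, ptMap_fin, ptMap_fin] at hsq'
        have := fin_injective hsq'
        rw [hφ1, hφ1, ← pow_mul, ← pow_two] at this
        exact this
      · intro hwJ
        rw [hJ, Finset.mem_image] at hwJ
        obtain ⟨a, -, rfl⟩ := hwJ
        apply htr
        rw [hw]
        exact isRat_fin j a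
  have hfin : (fin '' ((W \ J : Finset E) : Set E)).Finite := (Finset.finite_toSet _).image _
  calc nn (ratGroup j) x = (MulAction.orbit (ratGroup j) x).ncard := (Nat.card_coe_set_eq _)
    _ ≤ (fin '' ((W \ J : Finset E) : Set E)).ncard := Set.ncard_le_ncard hsub hfin
    _ ≤ ((W \ J : Finset E) : Set E).ncard := Set.ncard_image_le (Finset.finite_toSet _)
    _ = (W \ J).card := Set.ncard_coe_finset _
    _ ≤ q * (q - 1) := hcard

include hφ2 hφ3 p in
omit [CharP F p] in
/-- the stabiliser of an irrational point acts freely on the rational points -/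
theorem ee_R_irr_le {x : ℙ E (Fin 2 → E)} (hx : ¬ IsRat j x) :
    ee (ratGroup j) x ≤ Fintype.card F + 1 := by
  have h2 : Nat.card (MulAction.orbit (Gam j) (inf : ℙ E (Fin 2 → E))) = Fintype.card F + 1 :=
    nn_inf j
  rw [← h2]
  have hfinO : Finite (MulAction.orbit (Gam j) (inf : ℙ E (Fin 2 → E))) := Set.finite_range _
  let f : MulAction.stabilizer (ratGroup j) x → MulAction.orbit (Gam j) (inf : ℙ E (Fin 2 → E)) :=
    fun g => ⟨((g : ratGroup j) : PGL(Fin 2, E)) • (inf : ℙ E (Fin 2 → E)),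
      (mem_orbit_inf_iff j _).mpr (isRat_smul j (g : ratGroup j).2 (isRat_inf j))⟩
  apply Nat.card_le_card_of_injective f
  intro g h hgh
  have h1 : ((g : ratGroup j) : PGL(Fin 2, E)) • (inf : ℙ E (Fin 2 → E)) =
      ((h : ratGroup j) : PGL(Fin 2, E)) • inf := congrArg Subtype.val hgh
  set k : PGL(Fin 2, E) := ((h : ratGroup j) : PGL(Fin 2, E))⁻¹ * ((g : ratGroup j) : PGL(Fin 2, E))
    with hk
  have hkR : k ∈ ratGroup j := (ratGroup j).mul_mem ((ratGroup j).inv_mem (h : ratGroup j).2)
    (g : ratGroup j).2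
  have hgx : ((g : ratGroup j) : PGL(Fin 2, E)) • x = x := g.2
  have hhx : ((h : ratGroup j) : PGL(Fin 2, E)) • x = x := h.2
  have hkx : k • x = x := by
    rw [hk, mul_smul, hgx, inv_smul_eq_iff, hhx]
  have hkinf : k • (inf : ℙ E (Fin 2 → E)) = inf := by
    rw [hk, mul_smul, h1, inv_smul_smul]
  have hkx' := partner_fixed j φ hφ2 hkR hkx
  by_contra hne
  have hk1 : k ≠ 1 := by
    intro hk1
    apply hne
    apply Subtype.ext
    apply Subtype.ext
    have : ((h : ratGroup j) : PGL(Fin 2, E)) * k = ((h : ratGroup j) : PGL(Fin 2, E)) := by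
      rw [hk1, mul_one]
    rw [hk, mul_inv_cancel_left] at this
    exact this
  rcases (isMob (E := E) p).fix_mem_pair hk1 (partner_ne j φ hφ3 hx).symm hkx hkx' hkinf
    with h3 | h3
  · exact hx (h3 ▸ isRat_inf j)
  · apply hx
    have h4 : ptMap φ (inf : ℙ E (Fin 2 → E)) = ptMap φ x := by rw [ptMap_inf, h3]
    rw [← ptMap_injective φ h4]
    exact isRat_inf j

include hφ1 hφ2 hφ3 p in
omit [CharP F p] in
/-- the stabiliser of an irrational point of degree two -/
theorem ee_R_irr {x : ℙ E (Fin 2 → E)} (hx : ¬ IsRat j x)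
    (hsq : ptMap φ (ptMap φ x) = x) : ee (ratGroup j) x = Fintype.card F + 1 := by
  have h1 := nn_R_irr_le j φ hφ1 hφ2 hx hsq
  have h2 := ee_R_irr_le j p φ hφ2 hφ3 hx
  have h3 := card_orbit_mul_card_stabilizer (G := ratGroup j) x
  rw [card_R] at h3
  by_contra hne
  have h4 : ee (ratGroup j) x ≤ Fintype.card F := by omega
  have h5 : nn (ratGroup j) x * ee (ratGroup j) x ≤
      Fintype.card F * (Fintype.card F - 1) * Fintype.card F := Nat.mul_le_mul h1 h4
  have h6 : nn (ratGroup j) x * ee (ratGroup j) x =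
      Fintype.card F * ((Fintype.card F - 1) * (Fintype.card F + 1)) := h3
  have hq2 : 2 ≤ Fintype.card F := Fintype.one_lt_card
  have h7 : 0 < Fintype.card F * (Fintype.card F - 1) := Nat.mul_pos (by omega) (by omega)
  have h8 : Fintype.card F * ((Fintype.card F - 1) * (Fintype.card F + 1)) =
      Fintype.card F * (Fintype.card F - 1) * Fintype.card F +
        Fintype.card F * (Fintype.card F - 1) := by ring
  omega

include hφ3 in
omit [Fintype F] [IsAlgClosed E] in
/-- a rational involution swapping an irrational point of degree two with its partner -/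
theorem exists_swap_irr {z : E} (hsq : φ (φ z) = z) :
    ∃ c ∈ ratGroup j, c • fin z = fin (φ z) ∧ c • fin (φ z) = fin z := by
  have hs : φ (z + φ z) = z + φ z := by rw [map_add, hsq, add_comm]
  obtain ⟨a, ha⟩ := hφ3 _ hs
  refine ⟨aff (-1) (j a), ⟨aff (-1) a, ?_⟩, ?_, ?_⟩
  · rw [map_aff]
    congr 1
    apply Units.ext
    simp
  · rw [aff_smul_fin, ha]
    congr 1
    push_cast
    ring
  · rw [aff_smul_fin, ha]
    congr 1
    push_cast
    ring

omit [Fintype F] [IsAlgClosed E] in
/-- the stabiliser of an irrational pair is a proper subgroup -/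
theorem pairStab_irr_ne_top (h2 : (2 : E) ≠ 0) {z : E} (hsq : φ (φ z) = z) :
    pairStab (ratGroup j) (fin z) (fin (φ z)) ≠ ⊤ := by
  intro htop
  have hu : aff (1 : Eˣ) (1 : E) ∈ ratGroup j := by
    refine ⟨aff 1 1, ?_⟩
    rw [map_aff, map_one, map_one]
  have hmem : (⟨aff 1 1, hu⟩ : ratGroup j) ∈ pairStab (ratGroup j) (fin z) (fin (φ z)) := by
    rw [htop]; exact Subgroup.mem_top _
  rw [mem_pairStab] at hmem
  rcases hmem with ⟨h1, -⟩ | ⟨h1, -⟩
  · have h1' : aff (1 : Eˣ) (1 : E) • fin z = fin z := h1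
    rw [aff_smul_fin] at h1'
    have e := fin_injective h1'
    simp at e
  · have h1' : aff (1 : Eˣ) (1 : E) • fin z = fin (φ z) := h1
    rw [aff_smul_fin] at h1'
    have e := fin_injective h1'
    have e' : φ z = z + 1 := by rw [← e]; simp
    have e2 : φ (φ z) = z + 1 + 1 := by rw [e', map_add, e', map_one]
    rw [hsq] at e2
    apply h2
    linear_combination -e2

end irrational

end Cfsg.Agent.Lib.Helper5.PGL2Max
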