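import Mathlib
import Cfsg.Agent.Lib.Helper5.PGL2Max.Burnside
import Cfsg.Agent.Lib.Helper5.PGL2Max.Stab
import Cfsg.Agent.Lib.Helper5.PSL2MaxOdd.LocalMax

set_option autoImplicit false

/-! `PGL₂(5)` has no maximal subgroup of order eight. -/

namespace Cfsg.Agent.Lib.Helper5.PGL2Max

open Matrix Cfsg.Agent.Lib.Helper5.PSL2MaxOdd Cfsg.Agent.Lib.Helper5.DicksonOrders
open scoped MatrixGroups

variable {F : Type*} [Field F] [Fintype F]

local notation "PSL2" => Matrix.ProjectiveSpecialLinearGroup (Fin 2) F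
local notation "PGL2" => Matrix.ProjGenLinGroup (Fin 2) F

/-- the image of `PSL₂(F)` is simple -/
theorem isSimpleGroup_Lr (h4 : 4 ≤ Fintype.card F) : IsSimpleGroup (Lr F) := by
  have := isSimpleGroup_PSL2 (F := F) h4
  exact (MonoidHom.ofInjective
    (ProjectiveSpecialLinearGroup.toPGL_injective (n := Fin 2) (R := F))).symm.isSimpleGroup

/-- the intersection of a subgroup not contained in the image of `PSL₂(F)` with this image has
index two -/
theorem two_mul_card_inf_Lr (hodd : Odd (Fintype.card F)) (M : Subgroup PGL2)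
    (hnle : ¬ M ≤ Lr F) : 2 * Nat.card (M ⊓ Lr F : Subgroup PGL2) = Nat.card M := by
  have := Lr_normal (F := F) hodd
  have h1 : (Lr F).relIndex M ∣ (Lr F).index := Subgroup.relIndex_dvd_index_of_normal _ _
  rw [Lr_index hodd] at h1
  have h2 : (Lr F).relIndex M ≠ 1 := fun h => hnle (Subgroup.relIndex_eq_one.mp h)
  have h3 : (Lr F).relIndex M = 2 := by
    rcases (Nat.dvd_prime Nat.prime_two).mp h1 with h | h
    · exact absurd h h2
    · exact h
  have h4 := ((Lr F).subgroupOf M).card_mul_index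
  have h5 : ((Lr F).subgroupOf M).index = 2 := h3
  rw [h5] at h4
  have h6 : Nat.card ((Lr F).subgroupOf M) = Nat.card (M ⊓ Lr F : Subgroup PGL2) := by
    rw [← Subgroup.inf_subgroupOf_left (Lr F) M]
    exact Nat.card_congr (Subgroup.subgroupOfEquivOfLe inf_le_left).toEquiv
  omega

/-- `PGL₂(5)` has no maximal subgroup of order eight not contained in the image of `PSL₂(5)` -/
theorem no_dih_five (hq : Fintype.card F = 5) (M : Subgroup PGL2) (hM : IsCoatom M)
    (hnle : ¬ M ≤ Lr F) (e : M ≃* DihedralGroup 4) : False := by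
  have hodd : Odd (Fintype.card F) := by rw [hq]; decide
  have hn := Lr_normal (F := F) hodd
  have hs := isSimpleGroup_Lr (F := F) (by omega)
  have hcG : Nat.card PGL2 = 120 := by
    rw [Cfsg.Agent.Lib.Helper5.MobWild.card_pgl 5 hq]
  have hcL : Nat.card (Lr F) = 2 ^ 2 * 15 := by
    have := (Lr F).card_mul_index
    rw [Lr_index hodd, hcG] at this
    omega
  have hcM : Nat.card M = 8 := by
    rw [Nat.card_congr e.toEquiv, DihedralGroup.nat_card]
  have hV : Nat.card (M ⊓ Lr F : Subgroup PGL2) = 2 ^ 2 := by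
    have := two_mul_card_inf_Lr hodd M hnle
    omega
  have : Fact (Nat.Prime 2) := ⟨Nat.prime_two⟩
  have hcomm : ∀ x ∈ M ⊓ Lr F, ∀ y ∈ M ⊓ Lr F, x * y = y * x := by
    intro x hx y hy
    have h1 := (IsPGroup.isMulCommutative_of_card_eq_prime_sq (p := 2) hV).is_comm.comm
      (⟨x, hx⟩ : (M ⊓ Lr F : Subgroup PGL2)) ⟨y, hy⟩
    exact congrArg Subtype.val h1
  exact not_coatom_of_abelian_sylow (Lr F) M hM 2 2 15 hcL (by decide) (by decide) (by decide)
    hV hcomm

end Cfsg.Agent.Lib.Helper5.PGL2Max
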