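import Mathlib
import Cfsg.Agent.Lib.Helper5.PGL2Max.Stab
import Cfsg.Agent.Lib.Helper5.SumTwoSq

set_option autoImplicit false

/-! Maximal subgroups of `PGL₂(F)` fixing a point or a pair of points. -/

namespace Cfsg.Agent.Lib.Helper5.PGL2Max

open Matrix Cfsg.Agent.Lib.Helper4 Cfsg.Agent.Lib.Helper5.Mob Cfsg.Agent.Lib.Helper5.MobPGL
  Cfsg.Agent.Lib.Helper5.MobWild Cfsg.Agent.Lib.Helper5.MobRat Cfsg.Agent.Lib.Helper5.DicksonBorel
  Cfsg.Agent.Lib.Helper5.DicksonMain Cfsg.Agent.Lib.Helper5.DicksonOrders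
  Cfsg.Agent.Lib.Helper5.DicksonMax Cfsg.Agent.Lib.Helper5.PSL2Tori
open scoped LinearAlgebra.Projectivization MatrixGroups

variable {F E : Type*} [Field F] [Fintype F] [Field E] [IsAlgClosed E] (j : F →+* E)
  (p : ℕ) [Fact p.Prime] [CharP F p] [CharP E p]
  (M : Subgroup (Matrix.ProjGenLinGroup (Fin 2) F))

omit [Fintype F] [IsAlgClosed E] in
theorem exists_smul_ne_R (x : ℙ E (Fin 2 → E)) : ∃ r : ratGroup j, r • x ≠ x := by
  obtain ⟨g, hg⟩ := exists_smul_ne j x
  exact ⟨⟨g.1, Gam_le_ratGroup j g.2⟩, hg⟩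

omit [IsAlgClosed E] in
theorem pairStab_ne_top_of_card (x y : ℙ E (Fin 2 → E)) (k : ℕ)
    (e : pairStab (ratGroup j) x y ≃* DihedralGroup k)
    (hk : 2 * k < Fintype.card F * ((Fintype.card F - 1) * (Fintype.card F + 1))) :
    pairStab (ratGroup j) x y ≠ ⊤ := by
  intro htop
  have h1 : Nat.card (pairStab (ratGroup j) x y) = Nat.card (ratGroup j) := by
    rw [htop, Subgroup.card_top]
  rw [Nat.card_congr e.toEquiv, DihedralGroup.nat_card, card_R] at h1
  omega

include p in
/-- a maximal subgroup fixing a point is the stabiliser of a rational point -/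
theorem max_fixed_R (hodd : Odd (Fintype.card F)) (hM : IsCoatom M) (hM2 : 2 ≤ Nat.card M)
    (x : ℙ E (Fin 2 → E)) (hx : ∀ g : imgR j M, g • x = x) :
    Nat.card M = Fintype.card F * (Fintype.card F - 1) := by
  have hfix : ∀ m ∈ M, ProjGenLinGroup.map j m • x = x := by
    intro m hm
    exact hx ⟨ProjGenLinGroup.map j m, (mem_imgR_iff j M _).mpr ⟨m, hm, rfl⟩⟩
  have hmem : ∀ m ∈ M, ratIso j m ∈ MulAction.stabilizer (ratGroup j) x := by
    intro m hm
    rw [MulAction.mem_stabilizer_iff, ratIso_smul]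
    exact hfix m hm
  have hN : MulAction.stabilizer (ratGroup j) x ≠ ⊤ := by
    intro htop
    obtain ⟨g, hg⟩ := exists_smul_ne_R j x
    apply hg
    have : g ∈ MulAction.stabilizer (ratGroup j) x := by rw [htop]; exact Subgroup.mem_top _
    exact this
  obtain ⟨e⟩ := coatom_transfer_R j M hM _ hmem hN
  have hcard : Nat.card M = ee (ratGroup j) x := Nat.card_congr e.toEquiv
  by_cases hxr : IsRat j x
  · rw [hcard]
    exact ee_R_rat j hxr
  · exfalso
    obtain ⟨φ, hφ1, hφ2, hφ3⟩ := DicksonFrob.exists_frob j p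
    -- a non-trivial element of `M`
    obtain ⟨m, hm1⟩ : ∃ m : M, m ≠ 1 := by
      have : Nontrivial M := by
        rw [← Finite.one_lt_card_iff_nontrivial]
        omega
      exact exists_ne 1
    have hgR : ProjGenLinGroup.map j (m : Matrix.ProjGenLinGroup (Fin 2) F) ∈ ratGroup j :=
      ⟨_, rfl⟩
    have hg1 : ProjGenLinGroup.map j (m : Matrix.ProjGenLinGroup (Fin 2) F) ≠ 1 := by
      intro h
      apply hm1
      apply Subtype.ext
      apply SubfieldPSL.pglMap_injective j
      rw [h, Subgroup.coe_one, map_one]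
    have hsq := frob_sq j p φ hφ2 hφ3 hxr hgR hg1 (hfix m m.2)
    rcases eq_inf_or_fin x with rfl | ⟨z, rfl⟩
    · exact hxr (isRat_inf j)
    rw [ptMap_fin, ptMap_fin] at hsq
    have hsqz : φ (φ z) = z := fin_injective hsq
    have h2E : (2 : E) ≠ 0 := by
      intro h2
      have h2F : (2 : F) = 0 := by
        apply j.injective
        rw [map_ofNat, map_zero]; exact h2
      have hq : Fintype.card F % 2 = 1 := Nat.odd_iff.mp hodd
      exact Cfsg.Agent.Lib.Helper5.SumTwoSq.two_ne_zero_of_odd hq h2F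
    have hle : MulAction.stabilizer (ratGroup j) (fin z) ≤
        MulAction.stabilizer (ratGroup j) (fin (φ z)) := by
      intro r hr
      rw [MulAction.mem_stabilizer_iff, smul_R_def] at hr ⊢
      have := partner_fixed j φ hφ2 r.2 hr
      rwa [ptMap_fin] at this
    have hmem2 : ∀ m ∈ M, ratIso j m ∈ pairStab (ratGroup j) (fin z) (fin (φ z)) := by
      intro m hm
      rw [mem_pairStab]
      left
      exact ⟨hmem m hm, hle (hmem m hm)⟩
    obtain ⟨e2⟩ := coatom_transfer_R j M hM _ hmem2 (pairStab_irr_ne_top j φ h2E hsqz)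
    obtain ⟨c, hcR, hc1, hc2⟩ := exists_swap_irr j φ hφ3 hsqz
    have hne : fin z ≠ fin (φ z) := by
      intro h
      apply hxr
      apply isRat_of_ptMap_eq j φ hφ3
      rw [ptMap_fin, ← h]
    obtain ⟨hc, -⟩ := (subMob (ratGroup j) p).pairStab_dihedral (fin z) (fin (φ z)) hne ⟨c, hcR⟩
      hc1 hc2
    rw [inf_eq_left.mpr hle] at hc
    have h3 : Nat.card M = 2 * ee (ratGroup j) (fin z) := by
      rw [Nat.card_congr e2.toEquiv, hc]
    have hpos : 0 < ee (ratGroup j) (fin z) := Nat.card_pos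
    omega

include p in
/-- a maximal subgroup with an orbit of length two is dihedral of order `2 (q ± 1)` -/
theorem max_orbit_two_R (hq : 3 ≤ Fintype.card F) (hM : IsCoatom M)
    (x : ℙ E (Fin 2 → E)) (hn : nn (imgR j M) x = 2)
    (hnofix : ¬ ∃ z : ℙ E (Fin 2 → E), ∀ g : imgR j M, g • z = z) :
    Nonempty (M ≃* DihedralGroup (Fintype.card F - 1)) ∨
    Nonempty (M ≃* DihedralGroup (Fintype.card F + 1)) := by
  set q := Fintype.card F with hqdef
  have : Finite (imgR j M) := Finite.of_equiv _ (imgRIso j M).toEquiv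
  -- the orbit
  have hn' : (MulAction.orbit (imgR j M) x).ncard = 2 := by
    rw [← Nat.card_coe_set_eq]; exact hn
  obtain ⟨a, b, hab, horb⟩ := Set.ncard_eq_two.mp hn'
  have hxo : x ∈ MulAction.orbit (imgR j M) x := MulAction.mem_orbit_self x
  obtain ⟨y, hyx, horb'⟩ : ∃ y, y ≠ x ∧ MulAction.orbit (imgR j M) x = {x, y} := by
    rw [horb] at hxo
    rcases hxo with rfl | rfl
    · exact ⟨b, hab.symm, horb⟩
    · exact ⟨a, hab, by rw [horb, Set.pair_comm]⟩
  have hyo : y ∈ MulAction.orbit (imgR j M) x := by rw [horb']; right; rfl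
  have hpres : ∀ g : imgR j M, (g • x = x ∧ g • y = y) ∨ (g • x = y ∧ g • y = x) := by
    intro g
    have h1 : g • x ∈ MulAction.orbit (imgR j M) x := MulAction.mem_orbit x g
    have h2 : g • y ∈ MulAction.orbit (imgR j M) x := by
      obtain ⟨c, hc⟩ := hyo
      rw [← hc]
      exact ⟨g * c, mul_smul g c x⟩
    rw [horb'] at h1 h2
    rcases h1 with h1 | h1 <;> rcases h2 with h2 | h2
    · exact absurd (MulAction.injective g (h2.trans h1.symm)) hyx
    · left; exact ⟨h1, h2⟩
    · right; exact ⟨h1, h2⟩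
    · exact absurd (MulAction.injective g (h2.trans h1.symm)) hyx
  have hmem : ∀ m ∈ M, ratIso j m ∈ pairStab (ratGroup j) x y := by
    intro m hm
    rw [mem_pairStab, ratIso_smul, ratIso_smul]
    exact hpres ⟨ProjGenLinGroup.map j m, (mem_imgR_iff j M _).mpr ⟨m, hm, rfl⟩⟩
  obtain ⟨c, hc⟩ := hyo
  have hc' : (c : PGL(Fin 2, E)) • x = y := hc
  have hcrat : (c : PGL(Fin 2, E)) ∈ ratGroup j := imgR_le j M c.2
  have hcy : (c : PGL(Fin 2, E)) • y = x := by
    rcases hpres c with ⟨h1, -⟩ | ⟨-, h2⟩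
    · exact absurd (h1.symm.trans hc') hyx.symm
    · exact h2
  have hbig : ∀ k : ℕ, k ≤ q + 1 → 2 * k < q * ((q - 1) * (q + 1)) := by
    intro k hk
    have h4 : 3 * (2 * (q + 1)) ≤ q * ((q - 1) * (q + 1)) :=
      Nat.mul_le_mul hq (Nat.mul_le_mul_right _ (by omega))
    omega
  by_cases hxr : IsRat j x
  · left
    have hyr : IsRat j y := by rw [← hc']; exact isRat_smul j hcrat hxr
    obtain ⟨e⟩ := pairStab_R_rat j p hxr hyr hyx.symm
    have hN := pairStab_ne_top_of_card j x y _ e (hbig _ (by omega))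
    obtain ⟨e2⟩ := coatom_transfer_R j M hM _ hmem hN
    exact ⟨e2.trans e⟩
  · right
    obtain ⟨φ, hφ1, hφ2, hφ3⟩ := DicksonFrob.exists_frob j p
    -- a non-trivial element fixing `x`
    have hee : 2 ≤ ee (imgR j M) x := by
      by_contra hlt
      push Not at hlt
      have hpos : 0 < ee (imgR j M) x := Nat.card_pos
      have h1 : ee (imgR j M) x = 1 := by omega
      have h2 := card_orbit_mul_card_stabilizer (G := imgR j M) x
      have h3 : Nat.card (MulAction.orbit (imgR j M) x) = 2 := hn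
      have h4 : Nat.card (MulAction.stabilizer (imgR j M) x) = 1 := h1
      rw [h3, h4] at h2
      apply hnofix
      obtain ⟨z, hz⟩ := (isMob (E := E) p).exists_fix (c : PGL(Fin 2, E))
      refine ⟨z, fun g => ?_⟩
      have hcard2 : Nat.card (imgR j M) = 2 := h2.symm
      have hc1 : c ≠ 1 := by
        rintro rfl
        exact hyx (by rw [← hc', Subgroup.coe_one, one_smul])
      have hg : g = 1 ∨ g = c := by
        by_contra hcon
        push Not at hcon
        have h3 : 2 < Nat.card (imgR j M) := by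
          have : Fintype (imgR j M) := Fintype.ofFinite _
          rw [Nat.card_eq_fintype_card (α := imgR j M)]
          · exact Finset.two_lt_card.mpr ⟨1, Finset.mem_univ _, c, Finset.mem_univ _, g,
              Finset.mem_univ _, hc1.symm, hcon.1.symm, hcon.2.symm⟩
        omega
      rcases hg with rfl | rfl
      · exact one_smul _ z
      · exact hz
    have hsingM : x ∈ sing (imgR j M) (ℙ E (Fin 2 → E)) := (mem_sing_iff_card x).mpr hee
    obtain ⟨h, hh1, hhx⟩ := hsingM
    have hhx' : (h : PGL(Fin 2, E)) • x = x := hhx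
    have hhy : (h : PGL(Fin 2, E)) • y = y := by
      rcases hpres h with ⟨-, h2⟩ | ⟨h1, -⟩
      · exact h2
      · exact absurd (hhx.symm.trans h1) hyx.symm
    have hhR : (h : PGL(Fin 2, E)) ∈ ratGroup j := imgR_le j M h.2
    have hh1' : (h : PGL(Fin 2, E)) ≠ 1 := fun hcon => hh1 (Subtype.ext hcon)
    -- the partner of `x` is `y`
    have hpart : ptMap φ x = y := by
      have h5 := partner_fixed j φ hφ2 hhR hhx'
      rcases (isMob (E := E) p).fix_mem_pair hh1' hyx.symm hhx' hhy h5 with h6 | h6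
      · exact absurd h6 (partner_ne j φ hφ3 hxr)
      · exact h6
    have hsq := frob_sq j p φ hφ2 hφ3 hxr hhR hh1' hhx'
    have hle : MulAction.stabilizer (ratGroup j) x ≤ MulAction.stabilizer (ratGroup j) y := by
      intro r hr
      rw [MulAction.mem_stabilizer_iff, smul_R_def] at hr ⊢
      have := partner_fixed j φ hφ2 r.2 hr
      rwa [hpart] at this
    obtain ⟨-, ⟨e⟩⟩ := (subMob (ratGroup j) p).pairStab_dihedral x y hyx.symm
      ⟨(c : PGL(Fin 2, E)), hcrat⟩ hc' hcy
    rw [inf_eq_left.mpr hle] at e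
    have hee2 : Nat.card (MulAction.stabilizer (ratGroup j) x) = q + 1 :=
      ee_R_irr j p φ hφ1 hφ2 hφ3 hxr hsq
    rw [hee2] at e
    have hN := pairStab_ne_top_of_card j x y _ e (hbig _ le_rfl)
    obtain ⟨e2⟩ := coatom_transfer_R j M hM _ hmem hN
    exact ⟨e2.trans e⟩

end Cfsg.Agent.Lib.Helper5.PGL2Max
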