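import Mathlib
import Cfsg.Agent.Lib.Helper5.PGL2Max.Basics
import Cfsg.Agent.Lib.Helper5.PSL2MaxOdd.TameCases

set_option autoImplicit false

/-! Subgroups of `PGL₂(F)` normalising a four-group: the Frobenius argument. -/

namespace Cfsg.Agent.Lib.Helper5.PGL2Max

open Matrix Cfsg.Agent.Lib.Helper5.SL2Cyclic Cfsg.Agent.Lib.Helper5.SL2Quat
  Cfsg.Agent.Lib.Helper5.SL2Four Cfsg.Agent.Lib.Helper5.PSL2Pairs
  Cfsg.Agent.Lib.Helper5.PSL2KleinClasses Cfsg.Agent.Lib.Helper5.PairOrbits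
  Cfsg.Agent.Lib.Helper5.SumTwoSq Cfsg.Agent.Lib.Helper5.PSL2MaxOdd
open scoped MatrixGroups

variable {F : Type*} [Field F]

local notation "SL2" => Matrix.SpecialLinearGroup (Fin 2) F
local notation "PSL2" => Matrix.ProjectiveSpecialLinearGroup (Fin 2) F
local notation "GL2" => Matrix.GeneralLinearGroup (Fin 2) F
local notation "PGL2" => Matrix.ProjGenLinGroup (Fin 2) F
local notation "M2" => Matrix (Fin 2) (Fin 2) F

/-- matrices commuting with the two quaternion generators are scalar -/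
theorem scalar_of_commute_M (h2 : (2 : F) ≠ 0) (p r : F) (hpr : p ^ 2 + r ^ 2 = -1) (Z : M2)
    (h1 : Z * (qi F).1 = (qi F).1 * Z) (h3 : Z * (qj p r hpr).1 = (qj p r hpr).1 * Z) :
    Z = Z 0 0 • (1 : M2) := by
  rw [qi_val] at h1
  rw [qj_val] at h3
  have a00 := congrFun (congrFun h1 0) 0
  have a01 := congrFun (congrFun h1 0) 1
  have e00 := congrFun (congrFun h3 0) 0
  have e01 := congrFun (congrFun h3 0) 1
  simp [mul_apply, Fin.sum_univ_two] at a00 a01 e00 e01
  -- `a00 : -Z 0 1 = Z 1 0`, `a01 : Z 0 0 = Z 1 1`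
  have hvr : Z 0 1 * r = 0 := by
    have : (2 : F) * (Z 0 1 * r) = 0 := by linear_combination e00 - r * a00
    exact (mul_eq_zero.mp this).resolve_left h2
  have hvp : Z 0 1 * p = 0 := by
    have : (2 : F) * (Z 0 1 * p) = 0 := by linear_combination -e01 + r * a01
    exact (mul_eq_zero.mp this).resolve_left h2
  have hv : Z 0 1 = 0 := by
    have : Z 0 1 * (p ^ 2 + r ^ 2) = 0 := by linear_combination p * hvp + r * hvr
    rw [hpr] at this
    linear_combination -this
  ext i j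
  fin_cases i <;> fin_cases j <;> simp
  · exact hv
  · rw [← a00, hv, neg_zero]
  · rw [← a01]

/-- the field endomorphism applied to the image of an element of `SL₂` -/
theorem map_toGL (τ : F →+* F) (W : SL2) :
    GeneralLinearGroup.map τ (SpecialLinearGroup.toGL W) = SpecialLinearGroup.toGL (TT τ W) := by
  apply GeneralLinearGroup.ext
  intro i j
  rw [GeneralLinearGroup.map_apply]
  rfl

/-- an element with the same determinant and the same image in `PGL₂` as a fixed element is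
fixed -/
theorem map_fixed_of_mk_eq (τ : F →+* F) (W Z : GL2) (hW : GeneralLinearGroup.map τ W = W)
    (hd : GeneralLinearGroup.det Z = GeneralLinearGroup.det W)
    (h : (ProjGenLinGroup.mk Z : PGL2) = ProjGenLinGroup.mk W) :
    GeneralLinearGroup.map τ Z = Z := by
  obtain ⟨u, hu⟩ := ProjGenLinGroup.mk_eq_mk_iff.mp h
  have hdet : GeneralLinearGroup.det Z * u ^ 2 = GeneralLinearGroup.det W := by
    rw [← hu, map_mul, GeneralLinearGroup.det_scalar, Fintype.card_fin]
  rw [← hd] at hdet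
  have hu2 : u ^ 2 = 1 := by
    have : GeneralLinearGroup.det Z * u ^ 2 = GeneralLinearGroup.det Z * 1 := by rw [hdet, mul_one]
    exact mul_left_cancel this
  have hu' : (u : F) = 1 ∨ (u : F) = -1 := by
    have : (u : F) * (u : F) = 1 := by
      have := congrArg Units.val hu2
      rw [Units.val_pow_eq_pow_val, Units.val_one, pow_two] at this
      exact this
    exact mul_self_eq_one_iff.mp this
  have hτu : Units.map (τ : F →* F) u = u := by
    apply Units.ext
    rw [Units.coe_map]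
    rcases hu' with h' | h'
    · rw [h']; exact map_one τ
    · rw [h']; show τ (-1) = -1; rw [map_neg, map_one]
  have h1 : GeneralLinearGroup.map τ Z * GeneralLinearGroup.scalar (Fin 2) u = W := by
    rw [← hW, ← hu, GeneralLinearGroup.map_mul, GeneralLinearGroup.map_scalar, hτu]
  rw [← hu] at h1
  exact mul_right_cancel h1

/-- conjugates which are fixed up to scalars are fixed -/
theorem conj_fixed (τ : F →+* F) (X : GL2) (A W : SL2) (hA : TT τ A = A) (hW : TT τ W = W)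
    (h : (ProjGenLinGroup.mk X : PGL2) * ProjGenLinGroup.mk (SpecialLinearGroup.toGL A) *
      (ProjGenLinGroup.mk X)⁻¹ = ProjGenLinGroup.mk (SpecialLinearGroup.toGL W)) :
    GeneralLinearGroup.map τ X * SpecialLinearGroup.toGL A * (GeneralLinearGroup.map τ X)⁻¹ =
      X * SpecialLinearGroup.toGL A * X⁻¹ := by
  have h1 := map_fixed_of_mk_eq τ (SpecialLinearGroup.toGL W) (X * SpecialLinearGroup.toGL A * X⁻¹)
    (by rw [map_toGL, hW])
    (by
      rw [map_mul, map_mul, map_inv, mul_comm, ← mul_assoc, inv_mul_cancel, one_mul]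
      apply Units.ext
      rw [SpecialLinearGroup.coeToGL_det, SpecialLinearGroup.coeToGL_det])
    (by rw [map_mul, map_mul, map_inv]; exact h)
  rw [GeneralLinearGroup.map_mul, GeneralLinearGroup.map_mul, GeneralLinearGroup.map_inv,
    map_toGL, hA] at h1
  exact h1

/-- an element of `GL₂` normalising the standard four-group is fixed up to scalars -/
theorem mk_fixed_of_normalizes (h2 : (2 : F) ≠ 0) (τ : F →+* F) (p₀ r₀ : F)
    (hpr₀ : p₀ ^ 2 + r₀ ^ 2 = -1) (hp : τ p₀ = p₀) (hr : τ r₀ = r₀) (X : GL2) (W₁ W₂ : SL2)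
    (hW₁ : TT τ W₁ = W₁) (hW₂ : TT τ W₂ = W₂)
    (h1 : (ProjGenLinGroup.mk X : PGL2) * ProjGenLinGroup.mk (SpecialLinearGroup.toGL (qi F)) *
      (ProjGenLinGroup.mk X)⁻¹ = ProjGenLinGroup.mk (SpecialLinearGroup.toGL W₁))
    (h3 : (ProjGenLinGroup.mk X : PGL2) *
      ProjGenLinGroup.mk (SpecialLinearGroup.toGL (qj p₀ r₀ hpr₀)) *
      (ProjGenLinGroup.mk X)⁻¹ = ProjGenLinGroup.mk (SpecialLinearGroup.toGL W₂)) :
    ProjGenLinGroup.map τ (ProjGenLinGroup.mk X : PGL2) = ProjGenLinGroup.mk X := by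
  have c1 := conj_fixed τ X (qi F) W₁ (TT_qi τ) hW₁ h1
  have c2 := conj_fixed τ X (qj p₀ r₀ hpr₀) W₂ (TT_qj τ p₀ r₀ hpr₀ hp hr) hW₂ h3
  obtain ⟨Y, hY⟩ : ∃ Y : GL2, Y = X⁻¹ * GeneralLinearGroup.map τ X := ⟨_, rfl⟩
  have key : ∀ A : GL2, GeneralLinearGroup.map τ X * A * (GeneralLinearGroup.map τ X)⁻¹ =
      X * A * X⁻¹ → Y * A = A * Y := by
    intro A hA
    calc Y * A = X⁻¹ * (GeneralLinearGroup.map τ X * A * (GeneralLinearGroup.map τ X)⁻¹) *
          GeneralLinearGroup.map τ X := by rw [hY]; group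
      _ = X⁻¹ * (X * A * X⁻¹) * GeneralLinearGroup.map τ X := by rw [hA]
      _ = A * Y := by rw [hY]; group
  have k1 : Y.1 * (qi F).1 = (qi F).1 * Y.1 := congrArg Units.val (key _ c1)
  have k2 : Y.1 * (qj p₀ r₀ hpr₀).1 = (qj p₀ r₀ hpr₀).1 * Y.1 := congrArg Units.val (key _ c2)
  have hsc := scalar_of_commute_M h2 p₀ r₀ hpr₀ Y.1 k1 k2
  have hz : Y.1 0 0 ≠ 0 := by
    intro h0
    have := GeneralLinearGroup.det_ne_zero Y
    rw [hsc, h0, zero_smul, det_zero] at this
    exact this rfl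
  rw [ProjGenLinGroup.map_mk, eq_comm, ProjGenLinGroup.mk_eq_mk_iff]
  refine ⟨Units.mk0 _ hz, ?_⟩
  have hXY : GeneralLinearGroup.map τ X = X * Y := by rw [hY]; group
  rw [hXY]
  congr 1
  apply Units.ext
  rw [GeneralLinearGroup.coe_scalar, Units.val_mk0, Matrix.scalar_apply,
    ← Matrix.smul_one_eq_diagonal]
  exact hsc.symm

/-- every pair of commuting involutions of `PSL₂(F)` can be moved to a prescribed standard pair by
conjugation in `PGL₂(F)` -/
theorem exists_conj_R [Fintype F] (hodd : Fintype.card F % 2 = 1) (x : PSL2 × PSL2)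
    (hx : x ∈ PairSet PSL2) (p₀ r₀ : F) (hpr₀ : p₀ ^ 2 + r₀ ^ 2 = -1) :
    ∃ γ : PGL2, γ * ProjectiveSpecialLinearGroup.toPGL x.1 * γ⁻¹ =
        ProjGenLinGroup.mk (SpecialLinearGroup.toGL (qi F)) ∧
      γ * ProjectiveSpecialLinearGroup.toPGL x.2 * γ⁻¹ =
        ProjGenLinGroup.mk (SpecialLinearGroup.toGL (qj p₀ r₀ hpr₀)) := by
  have h2 : (2 : F) ≠ 0 := two_ne_zero_of_odd hodd
  obtain ⟨p, r, hpr, g, hg⟩ := exists_rel_Pw hodd x hx
  have hg1 : g * x.1 * g⁻¹ = QuotientGroup.mk (qi F) := congrArg Prod.fst hg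
  have hg2 : g * x.2 * g⁻¹ = QuotientGroup.mk (qj p r hpr) := congrArg Prod.snd hg
  have t1 : ProjectiveSpecialLinearGroup.toPGL g * ProjectiveSpecialLinearGroup.toPGL x.1 *
      (ProjectiveSpecialLinearGroup.toPGL g)⁻¹ =
      ProjGenLinGroup.mk (SpecialLinearGroup.toGL (qi F)) := by
    rw [← map_inv, ← map_mul, ← map_mul, hg1]; rfl
  have t2 : ProjectiveSpecialLinearGroup.toPGL g * ProjectiveSpecialLinearGroup.toPGL x.2 *
      (ProjectiveSpecialLinearGroup.toPGL g)⁻¹ =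
      ProjGenLinGroup.mk (SpecialLinearGroup.toGL (qj p r hpr)) := by
    rw [← map_inv, ← map_mul, ← map_mul, hg2]; rfl
  by_cases hdet : (dd p r p₀ r₀).det = 0
  · refine ⟨ProjectiveSpecialLinearGroup.toPGL g, t1, ?_⟩
    rw [← map_inv, ← map_mul, ← map_mul, hg2]
    have : (QuotientGroup.mk (qj p r hpr) : PSL2) = QuotientGroup.mk (qj p₀ r₀ hpr₀) := by
      rw [eq_of_dd_det h2 p r p₀ r₀ hpr hpr₀ hdet]
      exact ((mk_eq_mk_iff h2 _ _).mpr (Or.inr rfl))
    rw [this]; rfl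
  · obtain ⟨D, hD⟩ : ∃ D : GL2, D = GeneralLinearGroup.mkOfDetNeZero (dd p r p₀ r₀) hdet :=
      ⟨_, rfl⟩
    have hDv : D.1 = dd p r p₀ r₀ := by rw [hD]; rfl
    refine ⟨ProjGenLinGroup.mk D * ProjectiveSpecialLinearGroup.toPGL g, ?_, ?_⟩
    · have e : ProjGenLinGroup.mk D * ProjectiveSpecialLinearGroup.toPGL g *
          ProjectiveSpecialLinearGroup.toPGL x.1 *
          (ProjGenLinGroup.mk D * ProjectiveSpecialLinearGroup.toPGL g)⁻¹ =
          ProjGenLinGroup.mk D * (ProjectiveSpecialLinearGroup.toPGL g *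
            ProjectiveSpecialLinearGroup.toPGL x.1 *
            (ProjectiveSpecialLinearGroup.toPGL g)⁻¹) * (ProjGenLinGroup.mk D)⁻¹ := by group
      rw [e, t1, ← map_inv, ← map_mul, ← map_mul]
      congr 1
      rw [mul_inv_eq_iff_eq_mul]
      apply Units.ext
      show D.1 * (qi F).1 = (qi F).1 * D.1
      rw [hDv]
      exact dd_qi p r p₀ r₀
    · have e : ProjGenLinGroup.mk D * ProjectiveSpecialLinearGroup.toPGL g *
          ProjectiveSpecialLinearGroup.toPGL x.2 *
          (ProjGenLinGroup.mk D * ProjectiveSpecialLinearGroup.toPGL g)⁻¹ =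
          ProjGenLinGroup.mk D * (ProjectiveSpecialLinearGroup.toPGL g *
            ProjectiveSpecialLinearGroup.toPGL x.2 *
            (ProjectiveSpecialLinearGroup.toPGL g)⁻¹) * (ProjGenLinGroup.mk D)⁻¹ := by group
      rw [e, t2, ← map_inv, ← map_mul, ← map_mul]
      congr 1
      rw [mul_inv_eq_iff_eq_mul]
      apply Units.ext
      show D.1 * (qj p r hpr).1 = (qj p₀ r₀ hpr₀).1 * D.1
      rw [hDv]
      exact dd_qj p r p₀ r₀ hpr hpr₀

/-- the subgroup of `PGL₂(F)` fixed by a field endomorphism -/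
noncomputable def fixR (τ : F →+* F) : Subgroup PGL2 :=
  MonoidHom.eqLocus (ProjGenLinGroup.map τ) (MonoidHom.id PGL2)

theorem mem_fixR_iff (τ : F →+* F) (g : PGL2) : g ∈ fixR τ ↔ ProjGenLinGroup.map τ g = g :=
  Iff.rfl

theorem uu_mem_fixR (τ : F →+* F) (a : F) (ha : τ a = a) :
    (ProjGenLinGroup.mk (SpecialLinearGroup.toGL (uu a)) : PGL2) ∈ fixR τ := by
  rw [mem_fixR_iff, ProjGenLinGroup.map_mk, map_toGL, TT_uu, ha]

/-- if everything is fixed, the endomorphism is trivial -/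
theorem eq_id_of_fixR_top (τ : F →+* F) (h : fixR τ = ⊤) (a : F) : τ a = a := by
  have h1 : (ProjGenLinGroup.mk (SpecialLinearGroup.toGL (uu a)) : PGL2) ∈ fixR τ := by
    rw [h]; exact Subgroup.mem_top _
  rw [mem_fixR_iff, ProjGenLinGroup.map_mk, map_toGL, TT_uu, ProjGenLinGroup.mk_eq_mk_iff] at h1
  obtain ⟨u, hu⟩ := h1
  have hm : (uu (τ a)).1 * (Matrix.scalar (Fin 2) (u : F)) = (uu a).1 := congrArg Units.val hu
  rw [uu_val, uu_val, Matrix.scalar_apply, ← Matrix.smul_one_eq_diagonal] at hm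
  have e00 := congrFun (congrFun hm 0) 0
  have e01 := congrFun (congrFun hm 0) 1
  simp at e00 e01
  rw [e00, Units.val_one, one_mul] at e01
  exact e01

end Cfsg.Agent.Lib.Helper5.PGL2Max
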