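import Mathlib
import Cfsg.Agent.Lib.Helper5.PGL2Max.S4Frob

set_option autoImplicit false

/-! Maximal subgroups of `PGL₂(F)` isomorphic to `S₄`. -/

namespace Cfsg.Agent.Lib.Helper5.PGL2Max

open Matrix Cfsg.Agent.Lib.Helper5.SL2Cyclic Cfsg.Agent.Lib.Helper5.SL2Quat
  Cfsg.Agent.Lib.Helper5.SL2Four Cfsg.Agent.Lib.Helper5.PSL2Pairs
  Cfsg.Agent.Lib.Helper5.PSL2KleinClasses Cfsg.Agent.Lib.Helper5.PairOrbits
  Cfsg.Agent.Lib.Helper5.SumTwoSq Cfsg.Agent.Lib.Helper5.PSL2MaxOdd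
open scoped MatrixGroups

variable {F : Type*} [Field F] [Fintype F]

local notation "SL2" => Matrix.SpecialLinearGroup (Fin 2) F
local notation "PSL2" => Matrix.ProjectiveSpecialLinearGroup (Fin 2) F
local notation "GL2" => Matrix.GeneralLinearGroup (Fin 2) F
local notation "PGL2" => Matrix.ProjGenLinGroup (Fin 2) F
local notation "M2" => Matrix (Fin 2) (Fin 2) F

/-- a maximal subgroup of `PGL₂(F)` isomorphic to `S₄`, of order prime to `p`, forces `q = p` -/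
theorem card_eq_p_of_S4_R (p : ℕ) [Fact p.Prime] [CharP F p] (hodd : Odd (Fintype.card F))
    (M : Subgroup PGL2) (hM : IsCoatom M) (e : M ≃* Equiv.Perm (Fin 4)) (hp : ¬ p ∣ 24) :
    Fintype.card F = p := by
  classical
  have hq2 : Fintype.card F % 2 = 1 := Nat.odd_iff.mp hodd
  have h2 : (2 : F) ≠ 0 := two_ne_zero_of_odd hq2
  have inj := ProjectiveSpecialLinearGroup.toPGL_injective (n := Fin 2) (R := F)
  obtain ⟨f1, f2, f3, f4, f5, f6, -, -⟩ := a4_facts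
  have hxR := pair_of_iso M e a4 b4 f1 f2 f3 f4 f5 f6
  obtain ⟨A, hA⟩ : ∃ A : PGL2, A = ((e.symm a4 : M) : PGL2) := ⟨_, rfl⟩
  obtain ⟨B, hB⟩ : ∃ B : PGL2, B = ((e.symm b4 : M) : PGL2) := ⟨_, rfl⟩
  rw [← hA, ← hB] at hxR
  -- both involutions are squares
  obtain ⟨c, hc⟩ : ∃ c : Equiv.Perm (Fin 4), c * c = a4 := by decide
  obtain ⟨c', hc'⟩ : ∃ c : Equiv.Perm (Fin 4), c * c = b4 := by decide
  have hAL : A ∈ Lr F := by
    have : A = ((e.symm c : M) : PGL2) ^ 2 := by rw [pow_two, coe_symm_mul, hc, hA]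
    rw [this]; exact Subgroup.sq_mem_of_index_two (Lr_index hodd) _
  have hBL : B ∈ Lr F := by
    have : B = ((e.symm c' : M) : PGL2) ^ 2 := by rw [pow_two, coe_symm_mul, hc', hB]
    rw [this]; exact Subgroup.sq_mem_of_index_two (Lr_index hodd) _
  obtain ⟨y₁, hy₁⟩ := hAL
  obtain ⟨y₂, hy₂⟩ := hBL
  have hx : (y₁, y₂) ∈ PairSet PSL2 := by
    obtain ⟨⟨g1, g2⟩, g3, g4, g5, g6⟩ := hxR
    refine ⟨⟨?_, ?_⟩, ?_, ?_, ?_, ?_⟩
    · intro h
      apply g1
      show A = 1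
      rw [← hy₁, show y₁ = 1 from h, map_one]
    · apply inj
      show ProjectiveSpecialLinearGroup.toPGL (y₁ * y₁) = ProjectiveSpecialLinearGroup.toPGL 1
      rw [map_mul, hy₁, map_one]; exact g2
    · intro h
      apply g3
      show B = 1
      rw [← hy₂, show y₂ = 1 from h, map_one]
    · apply inj
      show ProjectiveSpecialLinearGroup.toPGL (y₂ * y₂) = ProjectiveSpecialLinearGroup.toPGL 1
      rw [map_mul, hy₂, map_one]; exact g4
    · intro h
      apply g5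
      show B = A
      rw [← hy₂, ← hy₁, show y₂ = y₁ from h]
    · apply inj
      show ProjectiveSpecialLinearGroup.toPGL (y₂ * y₁) =
        ProjectiveSpecialLinearGroup.toPGL (y₁ * y₂)
      rw [map_mul, map_mul, hy₁, hy₂]; exact g6
  obtain ⟨p₀, r₀, hpr₀, hp₀, hr₀⟩ := exists_fixed_sq_add_sq (F := F) p
  obtain ⟨γ, hγ1, hγ2⟩ := exists_conj_R hq2 (y₁, y₂) hx p₀ r₀ hpr₀
  have hγ1' : γ * A * γ⁻¹ = ProjGenLinGroup.mk (SpecialLinearGroup.toGL (qi F)) := by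
    rw [← hy₁]; exact hγ1
  have hγ2' : γ * B * γ⁻¹ = ProjGenLinGroup.mk (SpecialLinearGroup.toGL (qj p₀ r₀ hpr₀)) := by
    rw [← hy₂]; exact hγ2
  obtain ⟨τ, hτ⟩ : ∃ τ : F →+* F, τ = frobenius F p := ⟨_, rfl⟩
  have hτp : ∀ a : F, a ^ p = a → τ a = a := by
    intro a ha
    rw [hτ, frobenius_def, ha]
  have hM' : IsCoatom (M.map (MulAut.conj γ).toMonoidHom) := isCoatom_map (MulAut.conj γ) M hM
  -- the four-group is mapped to the standard one
  have hV : ∀ z ∈ kvP (A, B) hxR, ∃ W : SL2, TT τ W = W ∧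
      γ * z * γ⁻¹ = ProjGenLinGroup.mk (SpecialLinearGroup.toGL W) := by
    intro z hz
    rw [mem_kvP] at hz
    rcases hz with h | h | h | h
    · refine ⟨1, map_one _, ?_⟩
      rw [h, mul_one, mul_inv_cancel, map_one, map_one]
    · exact ⟨qi F, TT_qi τ, by rw [h]; exact hγ1'⟩
    · exact ⟨qj p₀ r₀ hpr₀, TT_qj τ p₀ r₀ hpr₀ (hτp _ hp₀) (hτp _ hr₀), by rw [h]; exact hγ2'⟩
    · refine ⟨qi F * qj p₀ r₀ hpr₀, by
        rw [map_mul, TT_qi, TT_qj τ p₀ r₀ hpr₀ (hτp _ hp₀) (hτp _ hr₀)], ?_⟩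
      rw [h]
      have : γ * (A * B) * γ⁻¹ = (γ * A * γ⁻¹) * (γ * B * γ⁻¹) := by group
      show γ * (A * B) * γ⁻¹ = _
      rw [this, hγ1', hγ2', map_mul, map_mul]
  -- the conjugate of `M` is fixed by the Frobenius endomorphism
  have hle : M.map (MulAut.conj γ).toMonoidHom ≤ fixR τ := by
    rintro _ ⟨m, hm, rfl⟩
    show ProjGenLinGroup.map τ (γ * m * γ⁻¹) = γ * m * γ⁻¹
    obtain ⟨X, hX⟩ := ProjGenLinGroup.mk_surjective (γ * m * γ⁻¹)
    rw [← hX]
    have n1 : m * A * m⁻¹ ∈ kvP (A, B) hxR := by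
      subst hA hB
      exact normal_of_iso M e a4 b4 hxR a4 (fun g => (a4_normal g).1) m hm
    have n2 : m * B * m⁻¹ ∈ kvP (A, B) hxR := by
      subst hA hB
      exact normal_of_iso M e a4 b4 hxR b4 (fun g => (a4_normal g).2) m hm
    obtain ⟨W₁, hW₁, hW₁'⟩ := hV _ n1
    obtain ⟨W₂, hW₂, hW₂'⟩ := hV _ n2
    apply mk_fixed_of_normalizes h2 τ p₀ r₀ hpr₀ (hτp _ hp₀) (hτp _ hr₀) X W₁ W₂ hW₁ hW₂
    · rw [hX, ← hγ1', ← hW₁']; group
    · rw [hX, ← hγ2', ← hW₂']; group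
  -- an element of order `p`
  obtain ⟨U, hU⟩ : ∃ U : PGL2, U = ProjGenLinGroup.mk (SpecialLinearGroup.toGL (uu (1 : F))) :=
    ⟨_, rfl⟩
  have hUfix : U ∈ fixR τ := by rw [hU]; exact uu_mem_fixR τ 1 (map_one τ)
  have hUord : orderOf U = p := by
    have h1 : U = ProjectiveSpecialLinearGroup.toPGL (QuotientGroup.mk (uu (1 : F))) := by
      rw [hU]; rfl
    rw [h1, orderOf_injective _ inj, orderOf_mk_uu p h2]
  have hcard : Nat.card (M.map (MulAut.conj γ).toMonoidHom) = 24 := by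
    rw [Subgroup.card_map_of_injective (MulAut.conj γ).injective, Nat.card_congr e.toEquiv,
      Nat.card_eq_fintype_card, Fintype.card_perm, Fintype.card_fin]
    rfl
  have : Finite (M.map (MulAut.conj γ).toMonoidHom) := Nat.finite_of_card_ne_zero (by omega)
  have hUM : U ∉ M.map (MulAut.conj γ).toMonoidHom := by
    intro hmem
    exact orderOf_ne_of_not_dvd _ p (by rw [hcard]; exact hp) U hmem hUord
  have htop : fixR τ = ⊤ := by
    apply hM'.2
    exact lt_of_le_of_ne hle (fun h => hUM (by rw [h]; exact hUfix))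
  apply card_eq_of_le p
  apply card_le_of_forall_pow_eq p (Fact.out : p.Prime).one_lt
  intro a
  have := eq_id_of_fixR_top τ htop a
  rwa [hτ, frobenius_def] at this

end Cfsg.Agent.Lib.Helper5.PGL2Max
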