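import Mathlib
import Cfsg.Agent.Lib.Helper5.PGL2Max.S4Case

set_option autoImplicit false

/-! Subgroups of `PGL₂(F)` isomorphic to `S₄`, not contained in the image of `PSL₂(F)`:
the congruence modulo eight. -/

namespace Cfsg.Agent.Lib.Helper5.PGL2Max

open Matrix Cfsg.Agent.Lib.Helper5.SumTwoSq Cfsg.Agent.Lib.Helper5.PSL2MaxOdd
open scoped MatrixGroups

variable {F : Type*} [Field F]

local notation "SL2" => Matrix.SpecialLinearGroup (Fin 2) F
local notation "PSL2" => Matrix.ProjectiveSpecialLinearGroup (Fin 2) F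
local notation "GL2" => Matrix.GeneralLinearGroup (Fin 2) F
local notation "PGL2" => Matrix.ProjGenLinGroup (Fin 2) F
local notation "M2" => Matrix (Fin 2) (Fin 2) F

/-- elements of square determinant lie in the image of `PSL₂(F)` -/
theorem mk_mem_Lr_of_isSquare (X : GL2) (h : IsSquare (X.1.det)) :
    (ProjGenLinGroup.mk X : PGL2) ∈ Lr F := by
  obtain ⟨s, hs⟩ := h
  have hdet : X.1.det ≠ 0 := GeneralLinearGroup.det_ne_zero X
  have hs0 : s ≠ 0 := by
    rintro rfl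
    rw [mul_zero] at hs
    exact hdet hs
  have hdetS : (s⁻¹ • X.1).det = 1 := by
    rw [Matrix.det_smul, Fintype.card_fin, hs]
    field_simp
  refine ⟨QuotientGroup.mk (⟨s⁻¹ • X.1, hdetS⟩ : SL2), ?_⟩
  show ProjGenLinGroup.mk (SpecialLinearGroup.toGL (⟨s⁻¹ • X.1, hdetS⟩ : SL2)) = _
  rw [ProjGenLinGroup.mk_eq_mk_iff]
  refine ⟨Units.mk0 s hs0, ?_⟩
  apply Units.ext
  simp only [Units.val_mul, GeneralLinearGroup.coe_scalar, Units.val_mk0]
  rw [Matrix.scalar_apply, ← Matrix.smul_one_eq_diagonal, Matrix.mul_smul, Matrix.mul_one]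
  have h1 : ((SpecialLinearGroup.toGL (⟨s⁻¹ • X.1, hdetS⟩ : SL2) : GL2) : M2) = s⁻¹ • X.1 := rfl
  rw [h1, smul_smul, mul_inv_cancel₀ hs0, one_smul]

/-- the Cayley–Hamilton identity for two by two matrices -/
theorem cayley_M (A : M2) : A * A = A.trace • A - A.det • (1 : M2) := by
  rw [Matrix.trace_fin_two, Matrix.det_fin_two]
  ext i j
  fin_cases i <;> fin_cases j <;> simp [mul_apply, Fin.sum_univ_two] <;> ring

/-- a matrix whose square is scalar gives an involution of `PGL₂` -/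
theorem mk_sq_eq_one (X : GL2) (z : F) (h : X.1 * X.1 = z • (1 : M2)) :
    (ProjGenLinGroup.mk X : PGL2) ^ 2 = 1 := by
  have hz : z ≠ 0 := by
    rintro rfl
    rw [zero_smul] at h
    have := GeneralLinearGroup.det_ne_zero (X * X)
    rw [GeneralLinearGroup.coe_mul, h, det_zero] at this
    exact this rfl
  rw [pow_two, ← map_mul]
  have : X * X = GeneralLinearGroup.scalar (Fin 2) (Units.mk0 z hz) := by
    apply Units.ext
    rw [GeneralLinearGroup.coe_mul, h, GeneralLinearGroup.coe_scalar, Units.val_mk0,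
      Matrix.scalar_apply, ← Matrix.smul_one_eq_diagonal]
  rw [this, ProjGenLinGroup.mk_scalar]

/-- an element of order four of `PGL₂(F)`: the trace and the determinant -/
theorem trace_sq_of_order_four (X : GL2) (h4 : (ProjGenLinGroup.mk X : PGL2) ^ 4 = 1)
    (h2 : (ProjGenLinGroup.mk X : PGL2) ^ 2 ≠ 1) : X.1.trace ^ 2 = 2 * X.1.det := by
  obtain ⟨t, ht⟩ : ∃ t : F, t = X.1.trace := ⟨_, rfl⟩
  obtain ⟨d, hd⟩ : ∃ d : F, d = X.1.det := ⟨_, rfl⟩
  have hA : X.1 * X.1 = t • X.1 - d • (1 : M2) := by rw [ht, hd]; exact cayley_M X.1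
  have hA4 : X.1 * X.1 * (X.1 * X.1) = (t ^ 3 - 2 * t * d) • X.1 + (d ^ 2 - t ^ 2 * d) • (1 : M2) := by
    rw [hA]
    simp only [Matrix.sub_mul, Matrix.mul_sub, Matrix.smul_mul, Matrix.mul_smul, Matrix.one_mul,
      Matrix.mul_one, hA]
    module
  -- the fourth power is scalar
  rw [← map_pow, ← ProjGenLinGroup.mk_one, ProjGenLinGroup.mk_eq_mk_iff] at h4
  obtain ⟨u, hu⟩ := h4
  have hu' : (X.1 * X.1 * (X.1 * X.1)) * (u : F) • (1 : M2) = 1 := by
    have := congrArg Units.val hu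
    rw [Units.val_mul, GeneralLinearGroup.coe_scalar, Matrix.scalar_apply,
      ← Matrix.smul_one_eq_diagonal] at this
    have e4 : ((X ^ 4 : GL2) : M2) = X.1 * X.1 * (X.1 * X.1) := by
      rw [Units.val_pow_eq_pow_val]; noncomm_ring
    rw [e4, Units.val_one] at this
    exact this
  rw [Matrix.mul_smul, Matrix.mul_one, hA4] at hu'
  have hu0 : (u : F) ≠ 0 := u.ne_zero
  -- `(t³ - 2td) X` is scalar
  have hlin : (t ^ 3 - 2 * t * d) • X.1 = ((u : F)⁻¹ - (d ^ 2 - t ^ 2 * d)) • (1 : M2) := by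
    have h1 : (u : F)⁻¹ • ((u : F) • ((t ^ 3 - 2 * t * d) • X.1 + (d ^ 2 - t ^ 2 * d) • (1 : M2))) =
        (u : F)⁻¹ • (1 : M2) := by rw [hu']
    rw [smul_smul, inv_mul_cancel₀ hu0, one_smul] at h1
    rw [eq_sub_of_add_eq h1]
    exact (sub_smul _ _ _).symm
  have hc : t ^ 3 - 2 * t * d = 0 := by
    by_contra hne
    apply h2
    obtain ⟨c, hc⟩ : ∃ c : F, c = (t ^ 3 - 2 * t * d)⁻¹ * ((u : F)⁻¹ - (d ^ 2 - t ^ 2 * d)) :=
      ⟨_, rfl⟩
    have hX : X.1 = c • (1 : M2) := by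
      rw [hc, ← smul_smul, ← hlin, smul_smul, inv_mul_cancel₀ hne, one_smul]
    apply mk_sq_eq_one X (c * c)
    rw [hX]
    simp only [Matrix.smul_mul, Matrix.mul_smul, Matrix.one_mul, smul_smul]
  have ht0 : t ≠ 0 := by
    rintro rfl
    apply h2
    apply mk_sq_eq_one X (-d)
    rw [hA, zero_smul, zero_sub, neg_smul]
  have : t * (t ^ 2 - 2 * d) = 0 := by linear_combination hc
  rcases mul_eq_zero.mp this with h | h
  · exact absurd h ht0
  · rw [← ht, ← hd]; linear_combination h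

variable [Fintype F]

/-- odd permutations are mapped outside the image of `PSL₂(F)` -/
theorem not_mem_Lr_of_odd_perm (hodd : Odd (Fintype.card F)) (M : Subgroup PGL2)
    (hnle : ¬ M ≤ Lr F) (e : M ≃* Equiv.Perm (Fin 4)) (σ : Equiv.Perm (Fin 4))
    (hσ : Equiv.Perm.sign σ = -1) : ((e.symm σ : M) : PGL2) ∉ Lr F := by
  classical
  intro hmem
  apply hnle
  obtain ⟨H, hH⟩ : ∃ H : Subgroup (Equiv.Perm (Fin 4)),
      H = (Lr F).comap (M.subtype.comp e.symm.toMonoidHom) := ⟨_, rfl⟩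
  have hmemH : ∀ τ : Equiv.Perm (Fin 4), τ ∈ H ↔ ((e.symm τ : M) : PGL2) ∈ Lr F := by
    intro τ; rw [hH]; rfl
  have hA : alternatingGroup (Fin 4) ≤ H := by
    rw [← Equiv.Perm.closure_three_cycles_eq_alternating, Subgroup.closure_le]
    intro τ hτ
    have hτ' : τ.IsThreeCycle := hτ
    show τ ∈ H
    rw [hmemH]
    apply mem_Lr_of_odd hodd
    have h3 : orderOf ((e.symm τ : M) : PGL2) = 3 := by
      rw [Subgroup.orderOf_coe, MulEquiv.orderOf_eq, hτ'.orderOf]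
    rw [h3]; decide
  intro m hm
  obtain ⟨τ, hτ⟩ : ∃ τ : Equiv.Perm (Fin 4), τ = e ⟨m, hm⟩ := ⟨_, rfl⟩
  have hmτ : m = ((e.symm τ : M) : PGL2) := by rw [hτ, e.symm_apply_apply]
  rw [hmτ, ← hmemH]
  rcases Int.units_eq_one_or (Equiv.Perm.sign τ) with h | h
  · exact hA (Equiv.Perm.mem_alternatingGroup.mpr h)
  · have h1 : τ * σ⁻¹ ∈ H := hA (Equiv.Perm.mem_alternatingGroup.mpr (by
      rw [map_mul, map_inv, h, hσ]; decide))
    have h2 : σ ∈ H := (hmemH σ).mpr hmem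
    have : τ = τ * σ⁻¹ * σ := by group
    rw [this]; exact H.mul_mem h1 h2

/-- a subgroup of `PGL₂(F)` isomorphic to `S₄` and not contained in the image of `PSL₂(F)`:
`2` is not a square in `F` -/
theorem mod8_of_S4_R (hodd : Odd (Fintype.card F)) (M : Subgroup PGL2)
    (hnle : ¬ M ≤ Lr F) (e : M ≃* Equiv.Perm (Fin 4)) :
    Fintype.card F % 8 = 3 ∨ Fintype.card F % 8 = 5 := by
  classical
  obtain ⟨c, hc1, hc2, hc3⟩ : ∃ c : Equiv.Perm (Fin 4),
      Equiv.Perm.sign c = -1 ∧ c ^ 4 = 1 ∧ c ^ 2 ≠ 1 :=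
    ⟨Equiv.swap 0 1 * Equiv.swap 1 2 * Equiv.swap 2 3, by decide, by decide, by decide⟩
  have hg := not_mem_Lr_of_odd_perm hodd M hnle e c hc1
  obtain ⟨g, hgdef⟩ : ∃ g : PGL2, g = ((e.symm c : M) : PGL2) := ⟨_, rfl⟩
  rw [← hgdef] at hg
  have g4 : g ^ 4 = 1 := by
    rw [hgdef, ← Subgroup.coe_pow, ← map_pow, hc2, map_one]; rfl
  have g2 : g ^ 2 ≠ 1 := by
    intro h
    apply hc3
    have h1 : (e.symm (c ^ 2) : M) = 1 := by
      apply Subtype.ext
      rw [map_pow, Subgroup.coe_pow, ← hgdef]; exact h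
    rw [← e.apply_symm_apply (c ^ 2), h1, map_one]
  obtain ⟨X, hX⟩ := ProjGenLinGroup.mk_surjective g
  rw [← hX] at g4 g2 hg
  have htr := trace_sq_of_order_four X g4 g2
  by_contra hcon
  have hsq : IsSquare (2 : F) := by
    rw [FiniteField.isSquare_two_iff]; omega
  obtain ⟨s, hs⟩ := hsq
  have h2F : (2 : F) ≠ 0 := two_ne_zero_of_odd (Nat.odd_iff.mp hodd)
  have hs0 : s ≠ 0 := by
    rintro rfl
    rw [mul_zero] at hs
    exact h2F hs
  apply hg
  apply mk_mem_Lr_of_isSquare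
  refine ⟨X.1.trace / s, ?_⟩
  field_simp
  rw [pow_two, ← hs]
  linear_combination -htr

end Cfsg.Agent.Lib.Helper5.PGL2Max
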