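import Mathlib
import Cfsg.Agent.Lib.Helper5.PGL2Max.Local

set_option autoImplicit false

/-! The subfield case for subgroups of `PGL₂(F)`. -/

namespace Cfsg.Agent.Lib.Helper5.PGL2Max

open Matrix Cfsg.Agent.Lib.Helper4 Cfsg.Agent.Lib.Helper5.Mob Cfsg.Agent.Lib.Helper5.MobPGL
  Cfsg.Agent.Lib.Helper5.MobWild Cfsg.Agent.Lib.Helper5.MobRat Cfsg.Agent.Lib.Helper5.DicksonBorel
  Cfsg.Agent.Lib.Helper5.DicksonMain Cfsg.Agent.Lib.Helper5.DicksonOrders
  Cfsg.Agent.Lib.Helper5.DicksonMax Cfsg.Agent.Lib.Helper5.PSL2Tori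
open scoped LinearAlgebra.Projectivization MatrixGroups

variable {F E : Type*} [Field F] [Fintype F] [Field E] [IsAlgClosed E] (j : F →+* E)
  (p : ℕ) [Fact p.Prime] [CharP F p] [CharP E p]
  (G₀ : Subgroup PGL(Fin 2, E)) [Finite G₀] (hG₀ : G₀ ≤ ratGroup j)

include hG₀ in
/-- the unique fixed point of a non-trivial unipotent rational element is rational -/
theorem isRat_of_qq_R {x : ℙ E (Fin 2 → E)} (hq : (subMob G₀ p).qq x ≠ 1) : IsRat j x := by
  set M := subMob G₀ p
  have hnt : Nontrivial (M.Q x) := by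
    rw [← Finite.one_lt_card_iff_nontrivial]
    have : 0 < Nat.card (M.Q x) := Nat.card_pos
    have h2 : Nat.card (M.Q x) ≠ 1 := hq
    omega
  obtain ⟨⟨u, hu⟩, hu1⟩ := exists_ne (1 : M.Q x)
  have hu1' : u ≠ 1 := fun h => hu1 (Subtype.ext h)
  have hof : OnlyFix u x := ((M.mem_Q x u).mp hu).resolve_left hu1'
  have hof' : OnlyFix (u : PGL(Fin 2, E)) x := hof
  obtain ⟨φ, -, hφ2, hφ3⟩ := DicksonFrob.exists_frob j p
  exact isRat_of_onlyFix j φ hφ2 hφ3 (hG₀ u.2) hof'

include hG₀ in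
/-- the wild case for a group of rational elements, keeping track of the conjugating element -/
theorem case_wild_R (hw : (subMob G₀ p).WildPSL) :
    ∃ (γ : PGL(Fin 2, E)) (K : Type) (_ : Field K) (_ : Fintype K) (ι : K →+* E),
      γ ∈ ratGroup j ∧ (∀ k : K, ι k ∈ Set.range j) ∧ 3 ≤ Fintype.card K ∧
      (conjSub G₀ γ = (pslHom ι).range ∨
        conjSub G₀ γ = (Matrix.ProjGenLinGroup.map ι).range) := by
  set G := G₀ with hG
  set M := subMob G p with hM
  obtain ⟨x₀, x₁, hq3, hn, hc, -, -⟩ := hw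
  -- the point `x₀` is rational
  have hrat0 : IsRat j x₀ := isRat_of_qq_R j p G₀ hG₀ (by
    show M.qq x₀ ≠ 1
    omega)
  -- two more points of the orbit
  have hOfin : (MulAction.orbit G x₀).Finite := Set.finite_range _
  have hOcard : (MulAction.orbit G x₀).ncard = M.qq x₀ + 1 := by
    rw [← hn]; exact (Nat.card_coe_set_eq _)
  have hx₀O : x₀ ∈ MulAction.orbit G x₀ := MulAction.mem_orbit_self _
  have h1 : 1 < (MulAction.orbit G x₀ \ {x₀}).ncard := by
    rw [Set.ncard_sdiff_singleton_of_mem hx₀O, hOcard]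
    omega
  obtain ⟨y, hy, z, hz, hyz⟩ := (Set.one_lt_ncard (hOfin.sdiff)).mp h1
  have hratO : ∀ t ∈ MulAction.orbit G x₀, IsRat j t := by
    rintro _ ⟨g, rfl⟩
    exact isRat_smul j (hG₀ g.2) hrat0
  obtain ⟨γ, hγr, hγ0, hγy, hγz⟩ := exists_ratGroup_frame j hrat0 (hratO y hy.1) (hratO z hz.1)
    (fun h => hy.2 h.symm) (fun h => hz.2 h.symm) hyz
  -- the conjugate subgroup
  set G' := conjSub G γ with hG'
  have : Finite G' := Finite.of_equiv G (conjIso G γ).toEquiv
  set M' := subMob G' p with hM'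
  have hf := conjIso_smul (X := ℙ E (Fin 2 → E)) G γ
  have hfx : MulAction.toPerm γ x₀ = (inf : ℙ E (Fin 2 → E)) := hγ0
  have hw' : WildHyp G' p := by
    refine ⟨?_, ?_, ?_, ?_, ?_⟩
    · have := qq_transport M M' (conjIso G γ) (MulAction.toPerm γ) hf x₀
      rw [hfx] at this
      rw [this]; exact hq3
    · have h1 := qq_transport M M' (conjIso G γ) (MulAction.toPerm γ) hf x₀
      have h2 := nn_transport (conjIso G γ) (MulAction.toPerm γ) hf x₀
      rw [hfx] at h1 h2
      rw [h1, h2]; exact hn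
    · have h1 := qq_transport M M' (conjIso G γ) (MulAction.toPerm γ) hf x₀
      have h2 := cc_transport M M' (conjIso G γ) (MulAction.toPerm γ) hf x₀
      rw [hfx] at h1 h2
      rw [h1, h2]; exact hc
    · have := (mem_orbit_transport (conjIso G γ) (MulAction.toPerm γ) hf x₀ y).mp hy.1
      rw [hfx] at this
      have h2 : MulAction.toPerm γ y = fin (0 : E) := hγy
      rwa [h2] at this
    · have := (mem_orbit_transport (conjIso G γ) (MulAction.toPerm γ) hf x₀ z).mp hz.1
      rw [hfx] at this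
      have h2 : MulAction.toPerm γ z = fin (1 : E) := hγz
      rwa [h2] at this
  obtain ⟨K, _, _, ι, hrange, hstr⟩ := hw'.structure
  -- the field `K` embeds into `F`
  have hG'rat : G' ≤ ratGroup j := by
    intro g hg
    rw [mem_conjSub_iff] at hg
    have h1 := hG₀ hg
    have h2 : g = γ * (γ⁻¹ * g * γ) * γ⁻¹ := by group
    rw [h2]
    exact (ratGroup j).mul_mem ((ratGroup j).mul_mem hγr h1) ((ratGroup j).inv_mem hγr)
  have hsub : ∀ k : K, ι k ∈ Set.range j := by
    intro k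
    have h1 : aff 1 (ι k) ∈ G' := (hrange _).mp ⟨k, rfl⟩
    exact mem_range_of_aff_mem_ratGroup j (hG'rat h1)
  refine ⟨γ, K, inferInstance, inferInstance, ι, hγr, hsub, ?_, hstr⟩
  -- the order of `K`
  have hcardK : Nat.card K = Nat.card (trA G') := by
    apply Nat.card_congr
    refine Equiv.ofBijective (fun k => (⟨ι k, (hrange _).mp ⟨k, rfl⟩⟩ : trA G')) ⟨?_, ?_⟩
    · intro a b hab
      exact ι.injective (congrArg Subtype.val hab)
    · rintro ⟨a, ha⟩
      obtain ⟨k, hk⟩ := (hrange a).mpr ha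
      exact ⟨k, Subtype.ext hk⟩
  rw [← Nat.card_eq_fintype_card, hcardK, card_trA G' p]
  exact hw'.hq

end Cfsg.Agent.Lib.Helper5.PGL2Max
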