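import Mathlib
import Cfsg.Agent.Lib.Helper5.PGL2Max.Wild

set_option autoImplicit false

/-! The subfield case for maximal subgroups of `PGL₂(F)`: assembly. -/

namespace Cfsg.Agent.Lib.Helper5.PGL2Max

open Matrix Cfsg.Agent.Lib.Helper4 Cfsg.Agent.Lib.Helper5.Mob Cfsg.Agent.Lib.Helper5.MobPGL
  Cfsg.Agent.Lib.Helper5.MobWild Cfsg.Agent.Lib.Helper5.MobRat Cfsg.Agent.Lib.Helper5.DicksonBorel
  Cfsg.Agent.Lib.Helper5.DicksonMain Cfsg.Agent.Lib.Helper5.DicksonOrders
  Cfsg.Agent.Lib.Helper5.DicksonMax Cfsg.Agent.Lib.Helper5.PSL2Tori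
open scoped LinearAlgebra.Projectivization MatrixGroups

variable {F E : Type*} [Field F] [Fintype F] [Field E] [IsAlgClosed E] (j : F →+* E)
  (p : ℕ) [Fact p.Prime] [CharP F p] [CharP E p]
  (M : Subgroup (Matrix.ProjGenLinGroup (Fin 2) F))

omit [IsAlgClosed E] in
instance finite_imgR : Finite (imgR j M) := Finite.of_equiv M (imgRIso j M).toEquiv

omit [IsAlgClosed E] in
/-- a subgroup whose conjugate by a rational element lies in the image of `PSL₂(F)` lies in
the image of `PSL₂(F)` -/
theorem le_Lr_of_conjSub_le (hodd : Odd (Fintype.card F)) {γ : PGL(Fin 2, E)}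
    (hγ : γ ∈ ratGroup j) (h : conjSub (imgR j M) γ ≤ Gam j) : M ≤ Lr F := by
  intro m hm
  rw [mem_Lr_iff j]
  have h1 : γ * ProjGenLinGroup.map j m * γ⁻¹ ∈ conjSub (imgR j M) γ := by
    rw [mem_conjSub_iff]
    have h2 : γ⁻¹ * (γ * ProjGenLinGroup.map j m * γ⁻¹) * γ = ProjGenLinGroup.map j m := by group
    rw [h2]
    exact (mem_imgR_iff j M _).mpr ⟨m, hm, rfl⟩
  have h3 := conj_mem_Gam j hodd (h h1) ((ratGroup j).inv_mem hγ)
  have h4 : γ⁻¹ * (γ * ProjGenLinGroup.map j m * γ⁻¹) * γ⁻¹⁻¹ = ProjGenLinGroup.map j m := by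
    group
  rwa [h4] at h3

/-- the subfield case -/
theorem max_of_wild_R (hodd : Odd (Fintype.card F)) (hM : IsCoatom M) (hML : ¬ Lr F ≤ M)
    (hw : (subMob (imgR j M) p).WildPSL) :
    ∃ (F₀ : Type) (_ : Field F₀) (_ : Fintype F₀) (r : ℕ), r.Prime ∧ Odd r ∧
        Fintype.card F = Fintype.card F₀ ^ r ∧
        Nonempty (M ≃* Matrix.ProjGenLinGroup (Fin 2) F₀) := by
  have hnle := not_le_Lr M hodd hM hML
  obtain ⟨γ, K, _, _, ι, hγ, hsub, hK3, hstr⟩ := case_wild_R j p (imgR j M) (imgR_le j M) hw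
  obtain ⟨m, hm⟩ := exists_pow_card_eq ι j hsub
  have hF3 : 3 ≤ Fintype.card F := by
    by_contra hlt
    have h1 : Fintype.card F = 1 := by
      rcases Nat.odd_iff.mp hodd with h
      omega
    have := Fintype.one_lt_card (α := F)
    omega
  have hm0 : m ≠ 0 := by
    rintro rfl
    rw [pow_zero] at hm
    omega
  have hKodd : Odd (Fintype.card K) := by
    rw [← hm] at hodd
    exact (Nat.odd_pow_iff hm0).mp hodd
  have hk1 : 1 ≤ (Fintype.card K) := Fintype.card_pos
  have hcardPGL : ∀ (K' : Type) [Field K'] [Fintype K'] (ι' : K' →+* E),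
      Nat.card (ratGroup ι') = Fintype.card K' * ((Fintype.card K' - 1) *
        (Fintype.card K' + 1)) := by
    intro K' _ _ ι'
    rw [ratGroup,
      ← Nat.card_congr (MonoidHom.ofInjective (SubfieldPSL.pglMap_injective ι')).toEquiv]
    exact card_pgl _ rfl
  have hcardG : Nat.card (ratGroup j) =
      (Fintype.card F) * (((Fintype.card F) - 1) * ((Fintype.card F) + 1)) := by
    rw [ratGroup,
      ← Nat.card_congr (MonoidHom.ofInjective (SubfieldPSL.pglMap_injective j)).toEquiv]
    exact card_pgl _ rfl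
  rcases hstr with h | h
  · -- `PSL₂(K)`
    exfalso
    apply hnle
    apply le_Lr_of_conjSub_le j M hodd hγ
    rw [h, Gam_eq_range]
    exact pslRange_mono ι j hsub
  · -- `PGL₂(K)`
    have hstr' : conjSub (imgR j M) γ = ratGroup ι := h
    have eM : M ≃* Matrix.ProjGenLinGroup (Fin 2) K :=
      (((imgRIso j M).trans (conjIso (imgR j M) γ)).trans (MulEquiv.subgroupCongr hstr')).trans
        (MonoidHom.ofInjective (SubfieldPSL.pglMap_injective ι)).symm
    have hcardM : Nat.card M =
        (Fintype.card K) * (((Fintype.card K) - 1) * ((Fintype.card K) + 1)) := by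
      rw [Nat.card_congr eM.toEquiv]; exact card_pgl _ rfl
    by_cases hm1 : m = 1
    · exfalso
      rw [hm1, pow_one] at hm
      apply hM.1
      apply Subgroup.eq_top_of_card_eq
      rw [hcardM, hm]
      exact (card_pgl _ rfl).symm
    by_cases hmeven : Even m
    · exfalso
      apply hnle
      apply le_Lr_of_conjSub_le j M hodd hγ
      rw [hstr', Gam_eq_range]
      apply ratGroup_le_pslRange ι j hsub
      intro σ _ a ha
      exact SubfieldPSL.isSquare_of_even σ m hmeven hodd hm a ha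
    by_cases hmp : m.Prime
    · exact ⟨K, inferInstance, inferInstance, m, hmp, Nat.not_even_iff_odd.mp hmeven, hm.symm,
        ⟨eM⟩⟩
    exfalso
    have hm2 : 2 ≤ m := by omega
    obtain ⟨a, b, ha, hb, hab⟩ := (Nat.not_prime_iff_exists_mul_eq hm2).mp hmp
    have ha2 : 2 ≤ a := by
      by_contra hlt
      have : a ≤ 1 := by omega
      have h1 : a * b ≤ 1 * b := Nat.mul_le_mul_right _ this
      omega
    have hb2 : 2 ≤ b := by
      by_contra hlt
      have : b ≤ 1 := by omega
      have h1 : a * b ≤ a * 1 := Nat.mul_le_mul_left _ this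
      omega
    obtain ⟨K', _, _, ι', hcard', hι1, hι2⟩ := exists_mid_field ι j a b (by omega) (by omega)
      (by rw [hab]; exact hm)
    have hlt1 : (Fintype.card K) < Fintype.card K' := by
      rw [hcard']
      calc (Fintype.card K) = (Fintype.card K) ^ 1 := (pow_one _).symm
        _ < (Fintype.card K) ^ a := Nat.pow_lt_pow_right (by omega) (by omega)
    have hlt2 : Fintype.card K' < (Fintype.card F) := by
      rw [hcard', ← hm, ← hab, pow_mul]
      calc (Fintype.card K) ^ a = ((Fintype.card K) ^ a) ^ 1 := (pow_one _).symm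
        _ < ((Fintype.card K) ^ a) ^ b := Nat.pow_lt_pow_right (by
            calc 1 < (Fintype.card K) := by omega
              _ ≤ (Fintype.card K) ^ a := Nat.le_self_pow (by omega) _) (by omega)
    -- the intermediate group
    set B := ratGroup ι' with hB
    have hBle : B ≤ ratGroup j := ratGroup_mono ι' j hι2
    have hMB : conjSub (imgR j M) γ ≤ B := by
      rw [hstr']
      exact ratGroup_mono ι ι' hι1
    have hBconj : conjSub B γ⁻¹ ≤ ratGroup j := by
      intro g hg
      rw [mem_conjSub_iff, inv_inv] at hg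
      have h1 := hBle hg
      have h2 : g = γ⁻¹ * (γ * g * γ⁻¹) * γ := by group
      rw [h2]
      exact (ratGroup j).mul_mem ((ratGroup j).mul_mem ((ratGroup j).inv_mem hγ) h1) hγ
    set N : Subgroup (ratGroup j) := (conjSub B γ⁻¹).subgroupOf (ratGroup j) with hN
    have hcardN : Nat.card N = Nat.card B := by
      rw [hN, Nat.card_congr (Subgroup.subgroupOfEquivOfLe hBconj).toEquiv,
        ← Nat.card_congr (conjIso B γ⁻¹).toEquiv]
    have hmem : ∀ m ∈ M, ratIso j m ∈ N := by
      intro m hm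
      rw [hN, Subgroup.mem_subgroupOf, ratIso_coe, mem_conjSub_iff, inv_inv]
      apply hMB
      rw [mem_conjSub_iff]
      have h2 : γ⁻¹ * (γ * (ProjGenLinGroup.map j) m * γ⁻¹) * γ = ProjGenLinGroup.map j m := by
        group
      rw [h2]
      exact (mem_imgR_iff j M _).mpr ⟨m, hm, rfl⟩
    have hcB : Nat.card B = Fintype.card K' * ((Fintype.card K' - 1) *
        (Fintype.card K' + 1)) := hcardPGL K' ι'
    have hNtop : N ≠ ⊤ := by
      intro htop
      have h1 : Nat.card N = Nat.card (ratGroup j) := by rw [htop, Subgroup.card_top]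
      have h2 := cube_lt (Fintype.card_pos : 1 ≤ Fintype.card K') hlt2
      omega
    obtain ⟨e⟩ := coatom_transfer_R j M hM N hmem hNtop
    have h5 : Nat.card M = Nat.card B := by rw [Nat.card_congr e.toEquiv, hcardN]
    have h6 := cube_lt hk1 hlt1
    omega

end Cfsg.Agent.Lib.Helper5.PGL2Max
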